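import Mathlib
import Cfsg.Agent.H418.Frob
set_option linter.all false

/-!
# Counting elements by their orders (helper418)

`G` of order `q (q² - 1)`, `q` a power of the odd prime `p`.
-/

set_option autoImplicit false

namespace Cfsg.Agent.H418.Nse

open Cfsg.Agent.H418.Frob

universe u

/-- number of elements of order `n` -/
noncomputable def co (G : Type u) [Group G] (n : ℕ) : ℕ := Nat.card {g : G // orderOf g = n}

theorem totient_dvd_co (G : Type u) [Group G] [Finite G] (n : ℕ) : Nat.totient n ∣ co G n := by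
  classical
  have := Fintype.ofFinite G
  unfold co
  rw [Nat.card_eq_fintype_card, Fintype.card_subtype]
  rw [Finset.card_eq_sum_card_fiberwise (f := fun x : G => Subgroup.zpowers x) (t := Finset.univ)
    (fun x _ => Finset.mem_univ _)]
  apply Finset.dvd_sum
  intro K _
  by_cases hne : ((Finset.univ.filter fun x : G => orderOf x = n).filter
      fun x => Subgroup.zpowers x = K).Nonempty
  · obtain ⟨x, hx⟩ := hne
    rw [Finset.mem_filter, Finset.mem_filter] at hx
    obtain ⟨⟨-, hx1⟩, rfl⟩ := hx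
    have h1 : ((Finset.univ.filter fun y : G => orderOf y = n).filter
      fun y => Subgroup.zpowers y = Subgroup.zpowers x) =
        Finset.univ.filter fun y => Subgroup.zpowers y = Subgroup.zpowers x := by
      rw [Finset.filter_filter]
      apply Finset.filter_congr
      intro y _
      constructor
      · exact fun h => h.2
      · intro h
        refine ⟨?_, h⟩
        rw [← hx1, ← Nat.card_zpowers, h, Nat.card_zpowers]
    rw [h1]
    have h2 := card_gen x
    rw [Nat.card_eq_fintype_card, Fintype.card_subtype] at h2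
    rw [h2, hx1]
  · rw [Finset.not_nonempty_iff_eq_empty] at hne
    rw [hne, Finset.card_empty]
    exact dvd_zero _

theorem co_one (G : Type u) [Group G] : co G 1 = 1 := by
  unfold co
  have : Unique {g : G // orderOf g = 1} :=
    { default := ⟨1, orderOf_one⟩
      uniq := fun g => Subtype.ext (orderOf_eq_one_iff.1 g.2) }
  exact Nat.card_unique

theorem co_zero (G : Type u) [Group G] [Finite G] : co G 0 = 0 := by
  unfold co
  have : IsEmpty {g : G // orderOf g = 0} := ⟨fun g => (orderOf_pos g.1).ne' g.2⟩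
  exact Nat.card_of_isEmpty

/-- odd positive number of elements of order `n` forces `n = 1` or `n = 2` -/
theorem le_two_of_odd (G : Type u) [Group G] [Finite G] {n : ℕ} (h : Odd (co G n)) : n = 1 ∨ n = 2 := by
  have h0 : n ≠ 0 := by
    rintro rfl
    rw [co_zero] at h
    exact absurd h (by decide)
  by_contra hcon
  have h3 : 2 < n := by omega
  have h1 := Nat.totient_even h3
  obtain ⟨k, hk⟩ := totient_dvd_co G n
  rw [hk] at h
  exact (Nat.not_even_iff_odd.2 h) (h1.mul_right k)

/-- the solutions of `g ^ n = 1` by orders -/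
theorem cnt_eq_sum (G : Type u) [Group G] [Finite G] {n : ℕ} (hn : n ≠ 0) :
    cnt G n = ∑ d ∈ n.divisors, co G d := by
  classical
  have := Fintype.ofFinite G
  unfold cnt co
  simp only [Nat.card_eq_fintype_card, Fintype.card_subtype]
  rw [Finset.card_eq_sum_card_fiberwise (f := fun x : G => orderOf x) (t := n.divisors)]
  · apply Finset.sum_congr rfl
    intro d hd
    rw [Finset.filter_filter]
    congr 1
    apply Finset.filter_congr
    intro x _
    constructor
    · exact fun h => h.2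
    · intro h
      refine ⟨?_, h⟩
      rw [← orderOf_dvd_iff_pow_eq_one, h]
      exact Nat.dvd_of_mem_divisors hd
  · intro x hx
    rw [Finset.mem_coe, Finset.mem_filter] at hx
    rw [Finset.mem_coe, Nat.mem_divisors]
    exact ⟨orderOf_dvd_of_pow_eq_one hx.2, hn⟩

theorem sum_divisors_mul_prime (F : ℕ → ℕ) {n p : ℕ} (hp : p.Prime) (hn : ¬ p ∣ n) :
    ∑ d ∈ (n * p).divisors, F d = ∑ d ∈ n.divisors, (F d + F (d * p)) := by
  classical
  have hn0 : n ≠ 0 := by
    rintro rfl
    exact hn (dvd_zero p)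
  have h1 : (n * p).divisors = n.divisors ∪ n.divisors.image (fun d => d * p) := by
    ext d
    simp only [Finset.mem_union, Finset.mem_image, Nat.mem_divisors]
    constructor
    · rintro ⟨hd, -⟩
      by_cases hpd : p ∣ d
      · obtain ⟨e, rfl⟩ := hpd
        refine Or.inr ⟨e, ⟨?_, hn0⟩, mul_comm _ _⟩
        rw [mul_comm p e] at hd
        exact Nat.dvd_of_mul_dvd_mul_right hp.pos hd
      · refine Or.inl ⟨?_, hn0⟩
        exact Nat.Coprime.dvd_of_dvd_mul_right ((Nat.Prime.coprime_iff_not_dvd hp).2 hpd).symm hd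
    · rintro (⟨hd, -⟩ | ⟨e, ⟨he, -⟩, rfl⟩)
      · exact ⟨hd.trans (Dvd.intro _ rfl), Nat.mul_ne_zero hn0 hp.ne_zero⟩
      · exact ⟨Nat.mul_dvd_mul_right he p, Nat.mul_ne_zero hn0 hp.ne_zero⟩
  have h2 : Disjoint n.divisors (n.divisors.image (fun d => d * p)) := by
    rw [Finset.disjoint_left]
    intro d hd hd2
    rw [Finset.mem_image] at hd2
    obtain ⟨e, -, rfl⟩ := hd2
    exact hn ((Dvd.intro_left _ rfl).trans (Nat.dvd_of_mem_divisors hd))
  rw [h1, Finset.sum_union h2, Finset.sum_image, Finset.sum_add_distrib]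
  intro a _ b _ hab
  exact Nat.eq_of_mul_eq_mul_right hp.pos hab

theorem co_eq_zero_of_not_dvd (G : Type u) [Group G] [Finite G] {n : ℕ} (h : ¬ n ∣ Nat.card G) :
    co G n = 0 := by
  unfold co
  have : IsEmpty {g : G // orderOf g = n} := ⟨fun g => h (by rw [← g.2]; exact orderOf_dvd_natCard g.1)⟩
  exact Nat.card_of_isEmpty

section

variable {G : Type u} [Group G] [Finite G] {p f q : ℕ}

theorem facts (hp : p.Prime) (hp2 : p ≠ 2) (hf : f ≠ 0) (hq : q = p ^ f) :
    3 ≤ p ∧ p ≤ q ∧ 3 ≤ q ∧ p ∣ q ∧ ¬ p ∣ q ^ 2 - 1 ∧ Nat.Coprime q (q ^ 2 - 1) := by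
  have h3 : 3 ≤ p := by
    have := hp.two_le
    omega
  have hpq : p ∣ q := by rw [hq]; exact dvd_pow_self p hf
  have hq0 : 0 < q := by rw [hq]; exact pow_pos hp.pos f
  have hle : p ≤ q := Nat.le_of_dvd hq0 hpq
  have hc : Nat.Coprime q (q ^ 2 - 1) := by
    have h1 : 1 ≤ q ^ 2 := Nat.one_le_pow _ _ hq0
    have h2 : Nat.Coprime (q ^ 2) (q ^ 2 - 1) := by
      rw [Nat.coprime_self_sub_right h1]
      exact Nat.coprime_one_right _
    exact Nat.Coprime.coprime_dvd_left (dvd_pow_self q two_ne_zero) h2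
  refine ⟨h3, hle, by omega, hpq, ?_, hc⟩
  intro h
  have h4 := Nat.dvd_gcd hpq h
  rw [hc] at h4
  exact hp.one_lt.ne' (Nat.dvd_one.1 h4)

/-- if `q` divides the number of elements of order `n` for all `n > 1` prime to `p`, then exactly
`q² - 1` elements have order divisible by `p` -/
theorem card_singular (hp : p.Prime) (hp2 : p ≠ 2) (hf : f ≠ 0) (hq : q = p ^ f)
    (hG : Nat.card G = q * (q ^ 2 - 1))
    (h : ∀ n, 1 < n → ¬ p ∣ n → q ∣ co G n) : Nat.card {g : G // p ∣ orderOf g} = q ^ 2 - 1 := by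
  classical
  have := Fintype.ofFinite G
  obtain ⟨h3, hle, hq3, hpq, hnp, hcop⟩ := facts hp hp2 hf hq
  have hq1 : 1 ≤ q ^ 2 := Nat.one_le_pow _ _ (by omega)
  have hq9 : 9 ≤ q ^ 2 := by nlinarith
  -- the p-regular elements
  have hreg : ∀ g : G, g ^ (q ^ 2 - 1) = 1 ↔ ¬ p ∣ orderOf g := by
    intro g
    rw [← orderOf_dvd_iff_pow_eq_one]
    constructor
    · exact fun h1 h2 => hnp (h2.trans h1)
    · intro h1
      have h2 := orderOf_dvd_natCard g
      rw [hG] at h2
      refine Nat.Coprime.dvd_of_dvd_mul_left ?_ h2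
      rw [hq]
      exact (Nat.Coprime.pow_left f ((Nat.Prime.coprime_iff_not_dvd hp).2 h1)).symm
  have h1 : (q ^ 2 - 1) ∣ cnt G (q ^ 2 - 1) := frobenius_dvd _ (by rw [hG]; exact Dvd.intro_left _ rfl)
  have h2 : cnt G (q ^ 2 - 1) ≡ 1 [MOD q] := by
    rw [cnt_eq_sum G (by omega)]
    have h4 : (1 : ℕ) ∈ (q ^ 2 - 1).divisors := Nat.one_mem_divisors.2 (by omega)
    rw [← Finset.add_sum_erase _ _ h4, co_one]
    have h5 : q ∣ ∑ d ∈ (q ^ 2 - 1).divisors.erase 1, co G d := by
      apply Finset.dvd_sum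
      intro d hd
      rw [Finset.mem_erase, Nat.mem_divisors] at hd
      have hd0 : d ≠ 0 := by
        rintro rfl
        have := Nat.eq_zero_of_zero_dvd hd.2.1
        omega
      exact h d (by omega) (fun h6 => hnp (h6.trans hd.2.1))
    have h6 := (Nat.modEq_zero_iff_dvd).2 h5
    simpa using Nat.ModEq.add_left 1 h6
  have h4 : cnt G (q ^ 2 - 1) + Nat.card {g : G // p ∣ orderOf g} = Nat.card G := by
    unfold cnt
    simp only [Nat.card_eq_fintype_card, Fintype.card_subtype]
    rw [← Finset.card_univ (α := G), ← Finset.card_filter_add_card_filter_not (s := Finset.univ)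
      (fun g : G => g ^ (q ^ 2 - 1) = 1)]
    congr 2
    ext g
    simp only [Finset.mem_filter, Finset.mem_univ, true_and, hreg, not_not]
  obtain ⟨k, hk⟩ := h1
  have hk1 : k ≤ q := by
    have h5 : cnt G (q ^ 2 - 1) ≤ q * (q ^ 2 - 1) := by rw [← hG]; omega
    rw [hk, mul_comm q] at h5
    exact Nat.le_of_mul_le_mul_left h5 (by omega)
  have hk2 : q ∣ k + 1 := by
    have h5 : ((q ^ 2 - 1 : ℕ) : ℤ) = (q : ℤ) ^ 2 - 1 := by push_cast [Nat.cast_sub hq1]; ring
    have h6 : (q : ℤ) ∣ (1 : ℤ) - ((cnt G (q ^ 2 - 1) : ℕ) : ℤ) := by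
      have := (Nat.modEq_iff_dvd).1 h2
      simpa using this
    rw [hk, Nat.cast_mul, h5] at h6
    have h7 : (q : ℤ) ∣ (k : ℤ) + 1 := by
      have h8 : (k : ℤ) + 1 = (1 - ((q : ℤ) ^ 2 - 1) * k) + q * (q * k) := by ring
      rw [h8]
      exact dvd_add h6 (Dvd.intro _ rfl)
    exact_mod_cast h7
  have hk3 : k + 1 = q := by
    obtain ⟨j, hj⟩ := hk2
    have hj1 : j = 1 := by
      have hj0 : j ≠ 0 := by rintro rfl; omega
      by_contra hne
      have : 2 ≤ j := by omega
      nlinarith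
    rw [hj, hj1, mul_one]
  rw [hG, hk] at h4
  have h5 : q * (q ^ 2 - 1) = (q ^ 2 - 1) * k + (q ^ 2 - 1) := by
    rw [← hk3]; ring
  rw [h5] at h4
  omega

/-- the arithmetic of the set of the numbers of elements of a given order -/
theorem arith (hp : p.Prime) (hp2 : p ≠ 2) (hf : f ≠ 0) (hq : q = p ^ f)
    (hG : Nat.card G = q * (q ^ 2 - 1))
    (h1 : ∀ n, co G n ≠ 1 → co G n ≠ q ^ 2 - 1 → q ∣ co G n)
    (h2 : co G 2 = q ^ 2) :
    (∀ g : G, p ∣ orderOf g → orderOf g = p) ∧ co G p = q ^ 2 - 1 := by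
  classical
  have := Fintype.ofFinite G
  obtain ⟨h3, hle, hq3, hpq, hnp, hcop⟩ := facts hp hp2 hf hq
  have hq9 : 9 ≤ q ^ 2 := by nlinarith
  have hpq2 : p ∣ q ^ 2 := hpq.trans (dvd_pow_self q two_ne_zero)
  have hone : ∀ n, co G n = 1 → n = 1 := by
    intro n hn
    rcases le_two_of_odd G (n := n) (by rw [hn]; exact odd_one) with h | h
    · exact h
    · rw [h, h2] at hn
      omega
  -- residues modulo `p`
  have hres : ∀ n, n ≠ 1 → (q ∣ co G n) ∨ co G n = q ^ 2 - 1 := by
    intro n hn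
    by_cases h4 : co G n = q ^ 2 - 1
    · exact Or.inr h4
    · exact Or.inl (h1 n (fun h5 => hn (hone n h5)) h4)
  have hpG : p ∣ Nat.card G := by rw [hG]; exact hpq.trans (Dvd.intro _ rfl)
  have hcp : co G p = q ^ 2 - 1 := by
    have h4 : p ∣ cnt G p := frobenius_dvd p hpG
    rw [cnt_eq_sum G hp.ne_zero, hp.divisors, Finset.sum_pair hp.one_lt.ne, co_one] at h4
    rcases hres p hp.one_lt.ne' with h5 | h5
    · have h6 : p ∣ 1 := (Nat.dvd_add_left (hpq.trans h5)).1 h4
      exact absurd (Nat.dvd_one.1 h6) hp.one_lt.ne'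
    · exact h5
  -- numbers prime to `p`
  have hkey : ∀ n, ¬ p ∣ n → n * p ∣ Nat.card G → 1 < n → q ∣ co G n ∧ q ∣ co G (n * p) := by
    intro n
    induction n using Nat.strong_induction_on with
    | _ n IH =>
    intro hn hnG hn1
    have h4 : p ∣ cnt G (n * p) := (Dvd.intro_left _ rfl).trans (frobenius_dvd _ hnG)
    have hcopn : Nat.Coprime n p := ((Nat.Prime.coprime_iff_not_dvd hp).2 hn).symm
    have hn0 : n ≠ 0 := by omega
    have h5 : cnt G (n * p) = ∑ d ∈ n.divisors, (co G d + co G (d * p)) := by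
      rw [cnt_eq_sum G (Nat.mul_ne_zero hn0 hp.ne_zero)]
      exact sum_divisors_mul_prime (co G) hp hn
    have h6 : p ∣ ∑ d ∈ (n.divisors.erase n), (co G d + co G (d * p)) := by
      have h1n : (1 : ℕ) ∈ n.divisors.erase n := by
        rw [Finset.mem_erase]
        exact ⟨by omega, Nat.one_mem_divisors.2 hn0⟩
      rw [← Finset.add_sum_erase _ _ h1n, co_one, one_mul, hcp]
      refine dvd_add ?_ ?_
      · have : 1 + (q ^ 2 - 1) = q ^ 2 := by omega
        rw [this]
        exact hpq2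
      · apply Finset.dvd_sum
        intro d hd
        rw [Finset.mem_erase, Finset.mem_erase, Nat.mem_divisors] at hd
        obtain ⟨hd1, hdn, hd2, -⟩ := hd
        have hd0 : d ≠ 0 := by
          rintro rfl
          exact hn0 (Nat.eq_zero_of_zero_dvd hd2)
        have hlt : d < n := lt_of_le_of_ne (Nat.le_of_dvd (by omega) hd2) hdn
        obtain ⟨h7, h8⟩ := IH d hlt (fun h => hn (h.trans hd2)) ((Nat.mul_dvd_mul_right hd2 p).trans hnG)
          (by omega)
        exact dvd_add (hpq.trans h7) (hpq.trans h8)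
    rw [h5, ← Finset.add_sum_erase _ _ (Nat.mem_divisors_self n hn0)] at h4
    have h7 : p ∣ co G n + co G (n * p) := (Nat.dvd_add_left h6).1 h4
    have hnp1 : n * p ≠ 1 := by
      intro h
      exact hn1.ne' (Nat.eq_one_of_mul_eq_one_right h)
    -- the cases
    have hneg : ∀ m, co G m = q ^ 2 - 1 → co G m + 1 = q ^ 2 := by intro m hm; omega
    rcases hres n (by omega) with h8 | h8 <;> rcases hres (n * p) hnp1 with h9 | h9
    · exact ⟨h8, h9⟩
    · exfalso
      have h10 : p ∣ co G (n * p) := (Nat.dvd_add_right (hpq.trans h8)).1 h7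
      rw [h9] at h10
      exact hnp h10
    · exfalso
      have h10 : p ∣ co G n := (Nat.dvd_add_left (hpq.trans h9)).1 h7
      rw [h8] at h10
      exact hnp h10
    · exfalso
      rw [h8, h9] at h7
      have h10 : p ∣ 2 * (q ^ 2 - 1) := by rwa [two_mul]
      rcases hp.dvd_mul.1 h10 with h11 | h11
      · exact hp2 ((Nat.prime_dvd_prime_iff_eq hp Nat.prime_two).1 h11)
      · exact hnp h11
  have hall : ∀ n, 1 < n → ¬ p ∣ n → q ∣ co G n := by
    intro n hn1 hn
    by_cases hd : n ∣ Nat.card G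
    · refine (hkey n hn ?_ hn1).1
      exact Nat.Coprime.mul_dvd_of_dvd_of_dvd ((Nat.Prime.coprime_iff_not_dvd hp).2 hn).symm hd hpG
    · rw [co_eq_zero_of_not_dvd G hd]
      exact dvd_zero _
  have hsing := card_singular hp hp2 hf hq hG hall
  refine ⟨?_, hcp⟩
  -- the sets coincide
  unfold co at hcp
  rw [Nat.card_eq_fintype_card, Fintype.card_subtype] at hsing hcp
  have hsub : (Finset.univ.filter fun g : G => orderOf g = p) ⊆ Finset.univ.filter fun g : G => p ∣ orderOf g := by
    intro g hg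
    rw [Finset.mem_filter] at hg ⊢
    exact ⟨hg.1, hg.2 ▸ dvd_rfl⟩
  have heq := Finset.eq_of_subset_of_card_le hsub (by rw [hsing, hcp])
  intro g hg
  have : g ∈ Finset.univ.filter fun g : G => p ∣ orderOf g := Finset.mem_filter.2 ⟨Finset.mem_univ _, hg⟩
  rw [← heq, Finset.mem_filter] at this
  exact this.2

end

end Cfsg.Agent.H418.Nse
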