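import Mathlib
import Cfsg.Agent.H418.Nse
import Cfsg.Agent.S0265
set_option linter.all false

/-!
# The numbers of elements of given order in `PGL(2, q)`, `q` odd (helper418)
-/

set_option autoImplicit false

namespace Cfsg.Agent.H418.PglNse

open Matrix Cfsg.Agent.H418.Nse

universe u

/-- isomorphic fields give isomorphic projective linear groups -/
theorem pgl_congr {F : Type*} {K : Type*} [Field F] [Field K] (e : F ≃+* K) (n : ℕ) :
    Nonempty (ProjGenLinGroup (Fin n) F ≃* ProjGenLinGroup (Fin n) K) := by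
  let E : GL (Fin n) F ≃* GL (Fin n) K := Units.mapEquiv (RingEquiv.mapMatrix e).toMulEquiv
  refine ⟨QuotientGroup.congr _ _ E ?_⟩
  ext g
  show g ∈ Subgroup.map E.toMonoidHom _ ↔ _
  rw [Subgroup.mem_map_equiv, Subgroup.mem_center_iff, Subgroup.mem_center_iff]
  constructor
  · intro h x
    have := congrArg E (h (E.symm x))
    simpa using this
  · intro h x
    have := congrArg E.symm (h (E x))
    simpa using this

set_option linter.unusedSectionVars false

variable {F : Type u} [Field F] [Fintype F]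

instance finite_pgl : Finite (ProjGenLinGroup (Fin 2) F) :=
  Finite.of_surjective _ ProjGenLinGroup.mk_surjective

theorem card_pgl : Nat.card (ProjGenLinGroup (Fin 2) F) = Fintype.card F * (Fintype.card F ^ 2 - 1) := by
  classical
  have h1 := S0265.card_GL_eq_PGL (F := F) (n := 2) (by norm_num)
  rw [card_GL_field, Fin.prod_univ_two, Nat.card_units, Nat.card_eq_fintype_card (α := F)] at h1
  set q := Fintype.card F with hq
  have hq1 : 1 < q := Fintype.one_lt_card
  obtain ⟨k, hk⟩ : ∃ k, q = k + 2 := ⟨q - 2, by omega⟩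
  rw [hk] at h1 ⊢
  simp only [Fin.val_zero, pow_zero, Fin.val_one, pow_one] at h1
  have h2 : (k + 2) ^ 2 - (k + 2) = (k + 2 - 1) * (k + 2) := by
    rw [show k + 2 - 1 = k + 1 by omega, show (k + 2) ^ 2 = (k + 1) * (k + 2) + (k + 2) by ring,
      Nat.add_sub_cancel]
  rw [h2] at h1
  have h3 : (k + 2 - 1) * ((k + 2) * ((k + 2) ^ 2 - 1)) =
      (k + 2 - 1) * Nat.card (ProjGenLinGroup (Fin 2) F) := by
    rw [← h1]; ring
  exact (Nat.eq_of_mul_eq_mul_left (by omega) h3).symm

/-- the order is two iff the trace is zero -/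
theorem orderOf_eq_two_iff (h2 : (2 : F) ≠ 0) (g : GL (Fin 2) F) :
    orderOf (ProjGenLinGroup.mk g) = 2 ↔ g.1 0 0 + g.1 1 1 = 0 := by
  have hdet : g.1 0 0 * g.1 1 1 - g.1 0 1 * g.1 1 0 ≠ 0 := by
    have := g.det.ne_zero
    rwa [GeneralLinearGroup.val_det_apply, Matrix.det_fin_two] at this
  have hfact : Fact (Nat.Prime 2) := ⟨Nat.prime_two⟩
  rw [orderOf_eq_prime_iff, ← map_pow, ProjGenLinGroup.mk_eq_one, Ne, ProjGenLinGroup.mk_eq_one,
    GeneralLinearGroup.mem_center_iff_val_mem_range_scalar, GeneralLinearGroup.mem_center_iff_val_mem_range_scalar]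
  have hc : ∀ M : Matrix (Fin 2) (Fin 2) F, M ∈ Set.range (Matrix.scalar (Fin 2)) ↔
      M 0 1 = 0 ∧ M 1 0 = 0 ∧ M 0 0 = M 1 1 := by
    intro M
    constructor
    · rintro ⟨c, rfl⟩
      simp
    · rintro ⟨h1, h2, h3⟩
      refine ⟨M 0 0, ?_⟩
      ext i j
      fin_cases i <;> fin_cases j <;> simp [h1, h2, h3]
  rw [hc, hc]
  have hsq : ∀ i j, (g ^ 2 : GL (Fin 2) F).1 i j = g.1 i 0 * g.1 0 j + g.1 i 1 * g.1 1 j := by
    intro i j
    rw [pow_two, Units.val_mul, Matrix.mul_apply, Fin.sum_univ_two]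
  rw [hsq, hsq, hsq, hsq]
  set a := g.1 0 0
  set b := g.1 0 1
  set c := g.1 1 0
  set d := g.1 1 1
  constructor
  · rintro ⟨⟨h3, h4, h5⟩, h6⟩
    by_contra hne
    apply h6
    have hb : b = 0 := by
      have : b * (a + d) = 0 := by linear_combination h3
      exact (mul_eq_zero.1 this).resolve_right hne
    have hc' : c = 0 := by
      have : c * (a + d) = 0 := by linear_combination h4
      exact (mul_eq_zero.1 this).resolve_right hne
    refine ⟨hb, hc', ?_⟩
    have : (a - d) * (a + d) = 0 := by rw [hb, hc'] at h5; linear_combination h5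
    exact sub_eq_zero.1 ((mul_eq_zero.1 this).resolve_right hne)
  · intro h3
    refine ⟨⟨by linear_combination b * h3, by linear_combination c * h3,
      by linear_combination (a - d) * h3⟩, ?_⟩
    rintro ⟨h4, h5, h6⟩
    apply hdet
    have h7 : (2 : F) * a = 0 := by rw [← h6] at h3; linear_combination h3
    have h8 : a = 0 := (mul_eq_zero.1 h7).resolve_left h2
    rw [h4, h8, zero_mul, zero_mul, sub_zero]

/-- the number of triples with `a² + b c = 0` -/
theorem card_cone :
    Nat.card {t : F × F × F // t.1 * t.1 + t.2.1 * t.2.2 = 0} = Fintype.card F ^ 2 := by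
  classical
  rw [pow_two, ← Fintype.card_prod, ← Nat.card_eq_fintype_card]
  refine Nat.card_congr
    { toFun := fun t => if t.1.2.1 = 0 then (t.1.2.2, 0) else (t.1.1, t.1.2.1)
      invFun := fun s => if h : s.2 = 0 then ⟨(0, 0, s.1), by simp⟩ else
        ⟨(s.1, s.2, -(s.1 * s.1) / s.2), by
          show s.1 * s.1 + s.2 * (-(s.1 * s.1) / s.2) = 0
          rw [mul_div_cancel₀ _ h]
          ring⟩
      left_inv := ?_
      right_inv := ?_ }
  · rintro ⟨⟨a, b, c⟩, h⟩
    simp only at h
    by_cases hb : b = 0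
    · subst hb
      rw [zero_mul, add_zero] at h
      have ha : a = 0 := mul_self_eq_zero.1 h
      subst ha
      simp
    · simp only [hb, ↓reduceIte, ↓reduceDIte, Subtype.mk.injEq, Prod.mk.injEq, true_and]
      rw [div_eq_iff hb]
      linear_combination -h
  · rintro ⟨x, y⟩
    by_cases hy : y = 0
    · subst hy
      simp
    · simp [hy]

/-- the number of involutions -/
theorem co_two (h2 : (2 : F) ≠ 0) : co (ProjGenLinGroup (Fin 2) F) 2 = Fintype.card F ^ 2 := by
  classical
  set q := Fintype.card F with hq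
  have hq1 : 1 < q := Fintype.one_lt_card
  -- the matrices of trace zero
  have h3 : Nat.card {g : GL (Fin 2) F // g.1 0 0 + g.1 1 1 = 0} =
      (q - 1) * co (ProjGenLinGroup (Fin 2) F) 2 := by
    have e := QuotientGroup.preimageMkEquivSubgroupProdSet (Subgroup.center (GL (Fin 2) F))
      {x : GL (Fin 2) F ⧸ Subgroup.center (GL (Fin 2) F) | orderOf x = 2}
    have h4 := Nat.card_congr e
    rw [Nat.card_prod] at h4
    have h5 : Nat.card (Subgroup.center (GL (Fin 2) F)) = q - 1 := by
      have h6 := S0265.card_GL_eq_PGL (F := F) (n := 2) (by norm_num)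
      have h7 := Subgroup.card_eq_card_quotient_mul_card_subgroup (Subgroup.center (GL (Fin 2) F))
      rw [h7, mul_comm] at h6
      have h8 : Nat.card (GL (Fin 2) F ⧸ Subgroup.center (GL (Fin 2) F)) =
        Nat.card (ProjGenLinGroup (Fin 2) F) := rfl
      rw [h8] at h6
      have h9 := Nat.eq_of_mul_eq_mul_right Nat.card_pos h6
      rw [h9, Nat.card_units, Nat.card_eq_fintype_card]
    rw [h5] at h4
    have h6 : Nat.card {x : GL (Fin 2) F ⧸ Subgroup.center (GL (Fin 2) F) | orderOf x = 2} =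
        co (ProjGenLinGroup (Fin 2) F) 2 := rfl
    rw [h6] at h4
    rw [← h4]
    refine Nat.card_congr (Equiv.subtypeEquivRight fun g => ?_)
    exact (orderOf_eq_two_iff h2 g).symm
  have h4 : Nat.card {g : GL (Fin 2) F // g.1 0 0 + g.1 1 1 = 0} =
      Nat.card {t : F × F × F // ¬ (t.1 * t.1 + t.2.1 * t.2.2 = 0)} := by
    refine Nat.card_congr
      { toFun := fun g => ⟨(g.1.1 0 0, g.1.1 0 1, g.1.1 1 0), ?_⟩
        invFun := fun t => ⟨GeneralLinearGroup.mkOfDetNeZero !![t.1.1, t.1.2.1; t.1.2.2, -t.1.1] ?_, ?_⟩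
        left_inv := ?_
        right_inv := ?_ }
    · have hdet : g.1.1 0 0 * g.1.1 1 1 - g.1.1 0 1 * g.1.1 1 0 ≠ 0 := by
        have := g.1.det.ne_zero
        rwa [GeneralLinearGroup.val_det_apply, Matrix.det_fin_two] at this
      intro h5
      apply hdet
      have h6 := g.2
      simp only at h5
      linear_combination (g.1.1 0 0) * h6 - h5
    · rw [Matrix.det_fin_two]
      simp only [Matrix.of_apply, Matrix.cons_val', Matrix.cons_val_zero, Matrix.cons_val_one,
        Matrix.cons_val_fin_one]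
      intro h5
      apply t.2
      linear_combination -h5
    · simp [GeneralLinearGroup.mkOfDetNeZero]
    · rintro ⟨g, hg⟩
      apply Subtype.ext
      apply Units.ext
      ext i j
      fin_cases i <;> fin_cases j
      · rfl
      · rfl
      · rfl
      · show - (g.1 0 0) = g.1 1 1
        linear_combination -hg
    · rintro ⟨⟨a, b, c⟩, h⟩
      rfl
  rw [h4, Nat.card_eq_fintype_card, Fintype.card_subtype_compl, ← Nat.card_eq_fintype_card (α := {t : F × F × F //
    t.1 * t.1 + t.2.1 * t.2.2 = 0}), card_cone, Fintype.card_prod, Fintype.card_prod, ← hq] at h3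
  obtain ⟨k, hk⟩ : ∃ k, q = k + 1 := ⟨q - 1, by omega⟩
  rw [hk] at h3 ⊢
  rw [Nat.add_sub_cancel, show (k + 1) * ((k + 1) * (k + 1)) = k * (k + 1) ^ 2 + (k + 1) ^ 2 by ring,
    Nat.add_sub_cancel] at h3
  exact (Nat.eq_of_mul_eq_mul_left (by omega) h3).symm

/-- the unipotent matrices -/
def uHom (F : Type u) [Field F] : Multiplicative F →* GL (Fin 2) F where
  toFun b := GeneralLinearGroup.mkOfDetNeZero !![1, b.toAdd; 0, 1] (by simp)
  map_one' := by
    apply Units.ext
    ext i j
    fin_cases i <;> fin_cases j <;> simp [GeneralLinearGroup.mkOfDetNeZero]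
  map_mul' a b := by
    apply Units.ext
    ext i j
    fin_cases i <;> fin_cases j <;>
      simp [GeneralLinearGroup.mkOfDetNeZero, Matrix.mul_apply, Fin.sum_univ_two, add_comm]

/-- the unipotent subgroup -/
noncomputable def U (F : Type u) [Field F] : Subgroup (ProjGenLinGroup (Fin 2) F) :=
  (ProjGenLinGroup.mk.comp (uHom F)).range

/-- the centraliser of a nontrivial unipotent element is `U` -/
theorem mem_U {b : F} (hb : b ≠ 0) {g : ProjGenLinGroup (Fin 2) F}
    (hc : Commute (ProjGenLinGroup.mk (uHom F (Multiplicative.ofAdd b))) g) : g ∈ U F := by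
  obtain ⟨M, rfl⟩ := ProjGenLinGroup.mk_surjective g
  have h1 : ProjGenLinGroup.mk (uHom F (Multiplicative.ofAdd b) * M) =
      ProjGenLinGroup.mk (M * uHom F (Multiplicative.ofAdd b)) := by
    rw [map_mul, map_mul]
    exact hc
  rw [ProjGenLinGroup.mk_eq_mk_iff] at h1
  obtain ⟨z, hz⟩ := h1
  have hdet : M.1 0 0 * M.1 1 1 - M.1 0 1 * M.1 1 0 ≠ 0 := by
    have := M.det.ne_zero
    rwa [GeneralLinearGroup.val_det_apply, Matrix.det_fin_two] at this
  have hz' : ∀ i j, (uHom F (Multiplicative.ofAdd b) * M * GeneralLinearGroup.scalar (Fin 2) z : GL (Fin 2) F).1 i j =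
      (M * uHom F (Multiplicative.ofAdd b) : GL (Fin 2) F).1 i j := fun i j => by rw [hz]
  have u00 : (uHom F (Multiplicative.ofAdd b)).1 0 0 = 1 := rfl
  have u01 : (uHom F (Multiplicative.ofAdd b)).1 0 1 = b := rfl
  have u10 : (uHom F (Multiplicative.ofAdd b)).1 1 0 = 0 := rfl
  have u11 : (uHom F (Multiplicative.ofAdd b)).1 1 1 = 1 := rfl
  have s00 : (GeneralLinearGroup.scalar (Fin 2) z).1 0 0 = z.1 := by simp
  have s01 : (GeneralLinearGroup.scalar (Fin 2) z).1 0 1 = 0 := by simp
  have s10 : (GeneralLinearGroup.scalar (Fin 2) z).1 1 0 = 0 := by simp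
  have s11 : (GeneralLinearGroup.scalar (Fin 2) z).1 1 1 = z.1 := by simp
  have e00 := hz' 0 0
  have e01 := hz' 0 1
  have e10 := hz' 1 0
  have e11 := hz' 1 1
  rw [Units.val_mul, Units.val_mul, Units.val_mul, Matrix.mul_apply, Fin.sum_univ_two, Matrix.mul_apply,
    Matrix.mul_apply, Matrix.mul_apply, Fin.sum_univ_two, Fin.sum_univ_two, Fin.sum_univ_two] at e00 e01 e10 e11
  simp only [u00, u01, u10, u11, s00, s01, s10, s11, one_mul, zero_mul, mul_zero, add_zero, zero_add,
    mul_one] at e00 e01 e10 e11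
  set a := M.1 0 0 with ha
  set b' := M.1 0 1 with hb'
  set c := M.1 1 0 with hc'
  set d := M.1 1 1 with hd
  -- `c = 0`
  have hc0 : c = 0 := by
    by_contra hne
    have hz1 : z.1 = 1 := by
      have : c * (z.1 - 1) = 0 := by linear_combination e10
      have := (mul_eq_zero.1 this).resolve_left hne
      linear_combination this
    rw [hz1] at e11
    have : c * b = 0 := by linear_combination -e11
    exact (mul_ne_zero hne hb) this
  rw [hc0] at e00 e11 hdet
  have hd0 : d ≠ 0 := by
    intro h0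
    apply hdet
    rw [h0]
    ring
  have ha0 : a ≠ 0 := by
    intro h0
    apply hdet
    rw [h0]
    ring
  have hz1 : z.1 = 1 := by
    have : d * (z.1 - 1) = 0 := by linear_combination e11
    have := (mul_eq_zero.1 this).resolve_left hd0
    linear_combination this
  rw [hz1] at e01
  have had : a = d := by
    have : b * (d - a) = 0 := by linear_combination e01
    have := (mul_eq_zero.1 this).resolve_left hb
    linear_combination -this
  refine ⟨Multiplicative.ofAdd (b' / a), ?_⟩
  show ProjGenLinGroup.mk (uHom F (Multiplicative.ofAdd (b' / a))) = ProjGenLinGroup.mk M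
  rw [ProjGenLinGroup.mk_eq_mk_iff]
  refine ⟨Units.mk0 a ha0, ?_⟩
  apply Units.ext
  ext i j
  have v00 : (uHom F (Multiplicative.ofAdd (b' / a))).1 0 0 = 1 := rfl
  have v01 : (uHom F (Multiplicative.ofAdd (b' / a))).1 0 1 = b' / a := rfl
  have v10 : (uHom F (Multiplicative.ofAdd (b' / a))).1 1 0 = 0 := rfl
  have v11 : (uHom F (Multiplicative.ofAdd (b' / a))).1 1 1 = 1 := rfl
  have t00 : (GeneralLinearGroup.scalar (Fin 2) (Units.mk0 a ha0)).1 0 0 = a := by simp
  have t01 : (GeneralLinearGroup.scalar (Fin 2) (Units.mk0 a ha0)).1 0 1 = 0 := by simp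
  have t10 : (GeneralLinearGroup.scalar (Fin 2) (Units.mk0 a ha0)).1 1 0 = 0 := by simp
  have t11 : (GeneralLinearGroup.scalar (Fin 2) (Units.mk0 a ha0)).1 1 1 = a := by simp
  rw [Units.val_mul, Matrix.mul_apply, Fin.sum_univ_two]
  fin_cases i <;> fin_cases j
  · show (uHom F (Multiplicative.ofAdd (b' / a))).1 0 0 * (GeneralLinearGroup.scalar (Fin 2) (Units.mk0 a ha0)).1 0 0 +
      (uHom F (Multiplicative.ofAdd (b' / a))).1 0 1 * (GeneralLinearGroup.scalar (Fin 2) (Units.mk0 a ha0)).1 1 0 = a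
    rw [v00, v01, t00, t10]
    ring
  · show (uHom F (Multiplicative.ofAdd (b' / a))).1 0 0 * (GeneralLinearGroup.scalar (Fin 2) (Units.mk0 a ha0)).1 0 1 +
      (uHom F (Multiplicative.ofAdd (b' / a))).1 0 1 * (GeneralLinearGroup.scalar (Fin 2) (Units.mk0 a ha0)).1 1 1 = b'
    rw [v00, v01, t01, t11, div_mul_cancel₀ _ ha0]
    ring
  · show (uHom F (Multiplicative.ofAdd (b' / a))).1 1 0 * (GeneralLinearGroup.scalar (Fin 2) (Units.mk0 a ha0)).1 0 0 +
      (uHom F (Multiplicative.ofAdd (b' / a))).1 1 1 * (GeneralLinearGroup.scalar (Fin 2) (Units.mk0 a ha0)).1 1 0 = c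
    rw [v10, v11, t00, t10, hc0]
    ring
  · show (uHom F (Multiplicative.ofAdd (b' / a))).1 1 0 * (GeneralLinearGroup.scalar (Fin 2) (Units.mk0 a ha0)).1 0 1 +
      (uHom F (Multiplicative.ofAdd (b' / a))).1 1 1 * (GeneralLinearGroup.scalar (Fin 2) (Units.mk0 a ha0)).1 1 1 = d
    rw [v10, v11, t01, t11, had]
    ring

theorem pow_of_mem_U (p : ℕ) [CharP F p] {g : ProjGenLinGroup (Fin 2) F} (hg : g ∈ U F) : g ^ p = 1 := by
  obtain ⟨b, rfl⟩ := hg
  rw [← map_pow]
  have : b ^ p = 1 := by
    apply Multiplicative.toAdd.injective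
    rw [toAdd_pow, nsmul_eq_mul, CharP.cast_eq_zero, zero_mul]
    rfl
  rw [this, map_one]

theorem uHom_ne_one {b : F} (hb : b ≠ 0) : ProjGenLinGroup.mk (uHom F (Multiplicative.ofAdd b)) ≠ 1 := by
  intro h
  rw [ProjGenLinGroup.mk_eq_one, GeneralLinearGroup.mem_center_iff_val_mem_range_scalar] at h
  obtain ⟨c, hc⟩ := h
  have h1 := congrFun (congrFun hc 0) 1
  have h2 : (uHom F (Multiplicative.ofAdd b)).1 0 1 = b := rfl
  rw [h2] at h1
  apply hb
  rw [← h1]
  simp

theorem card_U : Nat.card (U F) = Fintype.card F := by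
  have hinj : Function.Injective (ProjGenLinGroup.mk.comp (uHom F)) := by
    rw [injective_iff_map_eq_one]
    intro b hb
    by_contra hne
    exact uHom_ne_one (F := F) (b := b.toAdd) (fun h => hne (Multiplicative.toAdd.injective h)) hb
  have h1 := Nat.card_congr (MonoidHom.ofInjective hinj).toEquiv
  have h2 : Nat.card (Multiplicative F) = Fintype.card F := by
    rw [Nat.card_eq_fintype_card]
    exact Fintype.card_multiplicative F
  rw [← h2]
  exact h1.symm

/-- a free conjugation action counts -/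
theorem card_dvd_of_free {P : Type*} [Group P] [Finite P] (V : Subgroup P) (n : ℕ)
    (hfree : ∀ v ∈ V, v ≠ 1 → ∀ g : P, Commute v g → orderOf g ≠ n) : Nat.card V ∣ co P n := by
  classical
  let act : MulAction V {g : P // orderOf g = n} :=
    { smul := fun v g => ⟨v.1 * g.1 * v.1⁻¹,
        (orderOf_injective (MulAut.conj v.1).toMonoidHom (MulAut.conj v.1).injective g.1).trans g.2⟩
      one_smul := fun g => Subtype.ext (by
        show (1 : P) * g.1 * (1 : P)⁻¹ = g.1
        simp)
      mul_smul := fun v w g => Subtype.ext (by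
        show (v.1 * w.1) * g.1 * (v.1 * w.1)⁻¹ = v.1 * (w.1 * g.1 * w.1⁻¹) * v.1⁻¹
        group) }
  have h1 : ∀ g : {g : P // orderOf g = n}, MulAction.stabilizer V g = ⊥ := by
    intro g
    rw [eq_bot_iff]
    intro v hv
    rw [Subgroup.mem_bot]
    by_contra hne
    have h2 : v.1 * g.1 * v.1⁻¹ = g.1 := congrArg Subtype.val (MulAction.mem_stabilizer_iff.1 hv)
    refine hfree v.1 v.2 (fun h => hne (Subtype.ext h)) g.1 ?_ g.2
    rw [mul_inv_eq_iff_eq_mul] at h2
    exact h2
  have e := MulAction.selfEquivOrbitsQuotientProd (G := V) h1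
  unfold co
  rw [Nat.card_congr e, Nat.card_prod]
  exact Dvd.intro_left _ rfl

section

variable (p f : ℕ) [CharP F p]

theorem dvd_co (hp : p.Prime) {n : ℕ} (h1 : n ≠ 1) (hn : n ≠ p) :
    Fintype.card F ∣ co (ProjGenLinGroup (Fin 2) F) n := by
  rw [← card_U (F := F)]
  apply card_dvd_of_free
  rintro v ⟨b, rfl⟩ hv g hc ho
  have hb : b.toAdd ≠ 0 := by
    intro h
    apply hv
    have : b = 1 := Multiplicative.toAdd.injective h
    rw [this, map_one]
  have hg := mem_U (F := F) hb hc
  have h2 := orderOf_dvd_of_pow_eq_one (pow_of_mem_U (F := F) p hg)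
  rw [ho] at h2
  rcases (Nat.dvd_prime hp).1 h2 with h3 | h3
  · exact h1 h3
  · exact hn h3

theorem co_p (hp : p.Prime) (hp2 : p ≠ 2) (hf : f ≠ 0) (hq : Fintype.card F = p ^ f) :
    co (ProjGenLinGroup (Fin 2) F) p = Fintype.card F ^ 2 - 1 := by
  classical
  have hpF : Fact p.Prime := ⟨hp⟩
  set q := Fintype.card F with hqdef
  obtain ⟨h3, hle, hq3, hpq, hnp, hcop⟩ := facts hp hp2 hf hq
  have hq9 : 9 ≤ q ^ 2 := by nlinarith
  have h1 := card_singular (G := ProjGenLinGroup (Fin 2) F) hp hp2 hf hq card_pgl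
    (fun n hn hpn => dvd_co p hp (by omega) (fun h => hpn (h ▸ dvd_rfl)))
  rw [← h1]
  unfold co
  refine Nat.card_congr (Equiv.subtypeEquivRight fun g => ?_)
  constructor
  · intro h
    rw [h]
  · intro h
    -- `U` is a Sylow subgroup
    have hU : Nat.card (U F) = p ^ (Nat.card (ProjGenLinGroup (Fin 2) F)).factorization p := by
      rw [card_U, card_pgl, ← hqdef, Nat.factorization_mul (by omega) (by omega), Finsupp.add_apply,
        Nat.factorization_eq_zero_of_not_dvd hnp, add_zero, hq, Nat.Prime.factorization_pow hp,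
        Finsupp.single_eq_same]
    let S : Sylow p (ProjGenLinGroup (Fin 2) F) := Sylow.ofCard (U F) hU
    -- a power of `g` of order `p`
    have ho : 0 < orderOf g := orderOf_pos g
    obtain ⟨k, hk⟩ := h
    have hk0 : k ≠ 0 := by
      rintro rfl
      omega
    have hgk : orderOf (g ^ k) = p := by
      rw [orderOf_pow' g hk0, hk, Nat.gcd_eq_right (Dvd.intro_left _ rfl), Nat.mul_div_cancel _ (by omega)]
    have hP : IsPGroup p (Subgroup.zpowers (g ^ k)) := by
      apply IsPGroup.of_card (n := 1)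
      rw [Nat.card_zpowers, hgk, pow_one]
    obtain ⟨Q, hQ⟩ := hP.exists_le_sylow
    obtain ⟨x, hx⟩ := MulAction.exists_smul_eq (ProjGenLinGroup (Fin 2) F) S Q
    have hgQ : g ^ k ∈ Q := hQ (Subgroup.mem_zpowers _)
    rw [← hx] at hgQ
    have hgQ' : g ^ k ∈ ((x • S : Sylow p _) : Set (ProjGenLinGroup (Fin 2) F)) := hgQ
    rw [Sylow.coe_smul, Set.mem_smul_set] at hgQ'
    obtain ⟨y, hyS, hy⟩ := hgQ'
    have hyU : y ∈ U F := hyS
    have hy' : x * y * x⁻¹ = g ^ k := hy
    have hc : Commute y (x⁻¹ * g * x) := by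
      have h5 : y = x⁻¹ * g ^ k * x := by rw [← hy']; group
      have h6 : x⁻¹ * g ^ k * x = (x⁻¹ * g * x) ^ k := by
        have := conj_pow (i := k) (a := x⁻¹) (b := g)
        rw [inv_inv] at this
        exact this.symm
      rw [h5, h6]
      exact (Commute.refl _).pow_left k
    obtain ⟨b, rfl⟩ := hyU
    have hb : b.toAdd ≠ 0 := by
      intro h5
      have : b = 1 := Multiplicative.toAdd.injective h5
      rw [this, map_one, mul_one, mul_inv_cancel] at hy'
      rw [← hy', orderOf_one] at hgk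
      omega
    have h7 := pow_of_mem_U (F := F) p (mem_U (F := F) hb hc)
    have h8 : g ^ p = 1 := by
      have := conj_pow (i := p) (a := x⁻¹) (b := g)
      rw [inv_inv, h7] at this
      have h9 : g ^ p = x * (x⁻¹ * g ^ p * x) * x⁻¹ := by group
      rw [h9, ← this]
      group
    have h9 := orderOf_dvd_of_pow_eq_one h8
    rcases (Nat.dvd_prime hp).1 h9 with h10 | h10
    · rw [h10] at hk
      have := Nat.eq_one_of_mul_eq_one_right hk.symm
      omega
    · exact h10

end

end Cfsg.Agent.H418.PglNse
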