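import Mathlib
import Cfsg.Prelude.Def_Classical
import Cfsg.Agent.ChevalleyStructure.FieldIso
import Cfsg.Agent.Prune
set_option linter.all false
prune_inst 0x7fbfbdf9ffbfafffff7f7e77aeddfdfc1b95dfffbcdffd4bffe8e1ffafdf33924dc5778d8de078ff0ff7c29410a87843fbfffeffea6ffc7ffffdfff45ffbee5fe5f7bd0811d284240f342ff783f07f8e7f3fffffffffffffffffffffffffffbeffffffffffff
open scoped Cfsg.Agent.FastGrp

/-!
# Eigenvalues of unitary matrices of small degree (helper418)

For `x ∈ PSU(3, q)` or `PSU(4, q)` of order divisible by a prime `p` dividing `q ^ 2 - q + 1` (`p ≠ 3`) or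
`q ^ 2 + 1` (`p ≠ 2`, degree 4): `x ^ M = 1` where `M * gcd (n, q + 1)` is `q ^ 2 - q + 1`, `q ^ 3 + 1`,
`(q - 1) * (q ^ 2 + 1)` respectively.  (`psu_three`, `psu_four`, `psu_four'`.)
-/

set_option autoImplicit false

namespace Cfsg.Agent.H418.SUEig

open Matrix Polynomial Cfsg

section alg

variable {K : Type*} [Field K] {n : ℕ} {A : Matrix (Fin n) (Fin n) K}

theorem mem_iff {t : K} : t ∈ spectrum K A ↔ (scalar (Fin n) t - A).det = 0 := by
  rw [mem_spectrum_iff_isRoot_charpoly, Polynomial.IsRoot, eval_charpoly]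

/-- unitary matrices: the spectrum is closed under `t ↦ (φ t)⁻¹` -/
theorem star_mem {φ : K →+* K} (hA : Aᵀ * A.map φ = 1) {t : K} (ht : t ∈ spectrum K A) :
    (φ t)⁻¹ ∈ spectrum K A := by
  rw [mem_iff] at ht ⊢
  have h1 : (scalar (Fin n) (φ t) - A.map φ).det = 0 := by
    have h2 := congrArg φ ht
    rw [map_zero, RingHom.map_det, RingHom.mapMatrix_apply] at h2
    rw [← h2]
    congr 1
    ext i j
    by_cases h : i = j
    · subst h
      simp
    · simp only [scalar_apply, diagonal_apply_ne _ h, _root_.Matrix.sub_apply, _root_.Matrix.map_apply, _root_.zero_sub, _root_.map_neg]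
  have h3 : ((φ t) • Aᵀ - 1).det = 0 := by
    have h4 : (φ t) • Aᵀ - 1 = Aᵀ * (scalar (Fin n) (φ t) - A.map φ) := by
      rw [mul_sub, hA, scalar_apply, ← smul_one_eq_diagonal, Matrix.mul_smul, mul_one]
    rw [h4, det_mul, h1, mul_zero]
  have h5 : ((φ t) • A - 1).det = 0 := by
    rw [← h3, ← det_transpose, transpose_sub, transpose_smul, transpose_one]
  have h6 : φ t ≠ 0 := by
    intro h0
    rw [h0, zero_smul, zero_sub, det_neg, det_one, mul_one] at h5
    exact pow_ne_zero _ (neg_ne_zero.2 one_ne_zero) h5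
  have h7 : scalar (Fin n) (φ t)⁻¹ - A = (-(φ t)⁻¹) • ((φ t) • A - 1) := by
    rw [smul_sub, smul_smul, neg_mul, inv_mul_cancel₀ h6, neg_smul, one_smul, neg_smul, sub_neg_eq_add, add_comm,
      ← sub_eq_add_neg, scalar_apply, ← smul_one_eq_diagonal]
  rw [h7, det_smul, h5, mul_zero]

theorem root_mem {t : K} : t ∈ A.charpoly.roots ↔ t ∈ spectrum K A := by
  rw [mem_roots (charpoly_monic A).ne_zero, mem_spectrum_iff_isRoot_charpoly]

variable [IsAlgClosed K]

theorem card_roots_eq (A : Matrix (Fin n) (Fin n) K) : A.charpoly.roots.card = n := by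
  rw [← Polynomial.Splits.natDegree_eq_card_roots (IsAlgClosed.splits _), charpoly_natDegree_eq_dim, Fintype.card_fin]

theorem roots_eq {S : Finset K} (hS : ∀ t ∈ S, t ∈ spectrum K A) (hc : S.card = n) : A.charpoly.roots = S.val := by
  symm
  apply Multiset.eq_of_le_of_card_le
  · rw [Multiset.le_iff_subset S.nodup]
    intro t ht
    exact root_mem.2 (hS t ht)
  · rw [card_roots_eq]
    exact hc.ge

/-- if the `n` given eigenvalues are distinct and satisfy `t ^ M = u` then `A ^ M = u` -/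
theorem pow_eq {S : Finset K} (hS : ∀ t ∈ S, t ∈ spectrum K A) (hc : S.card = n) {M : ℕ} {u : K}
    (hM : ∀ t ∈ S, t ^ M = u) (h0 : 0 < M) : A ^ M = scalar (Fin n) u := by
  have h1 := roots_eq hS hc
  have h2 : A.charpoly ∣ X ^ M - C u := by
    have h3 : A.charpoly = (A.charpoly.roots.map fun a => X - C a).prod :=
      (IsAlgClosed.splits A.charpoly).eq_prod_roots_of_monic (charpoly_monic A)
    rw [h3]
    rw [Multiset.prod_X_sub_C_dvd_iff_le_roots (by
      intro h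
      have h4 := congrArg (fun f => f.coeff M) h
      simp [coeff_X_pow, coeff_C, h0.ne'] at h4), h1, Multiset.le_iff_subset S.nodup]
    intro t ht
    rw [mem_roots (by
      intro h
      have h4 := congrArg (fun f => f.coeff M) h
      simp [coeff_X_pow, coeff_C, h0.ne'] at h4), IsRoot, eval_sub, eval_pow, eval_X, eval_C, hM t ht, sub_self]
  obtain ⟨g, hg⟩ := h2
  have h3 := congrArg (aeval A) hg
  rw [map_mul, aeval_self_charpoly, zero_mul, map_sub, map_pow, aeval_X, aeval_C, sub_eq_zero] at h3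
  rw [h3]
  rfl

theorem prod_eq {S : Finset K} (hS : ∀ t ∈ S, t ∈ spectrum K A) (hc : S.card = n) : ∏ t ∈ S, t = A.det := by
  rw [det_eq_prod_roots_charpoly, roots_eq hS hc, Finset.prod_eq_multiset_prod, Multiset.map_id']

theorem mem_of {S : Finset K} (hS : ∀ t ∈ S, t ∈ spectrum K A) (hc : S.card = n) {t : K} (ht : t ∈ spectrum K A) :
    t ∈ S := by
  have h1 := root_mem.2 ht
  rw [roots_eq hS hc] at h1
  exact h1

/-- the last eigenvalue -/
theorem last {S : Finset K} (hS : ∀ t ∈ S, t ∈ spectrum K A) (hc : S.card + 1 = n) :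
    ∃ w ∈ spectrum K A, (∏ t ∈ S, t) * w = A.det := by
  have h1 : S.val ≤ A.charpoly.roots := by
    rw [Multiset.le_iff_subset S.nodup]
    intro t ht
    exact root_mem.2 (hS t ht)
  obtain ⟨T, hT⟩ := Multiset.le_iff_exists_add.1 h1
  have h2 : T.card = 1 := by
    have h3 := congrArg Multiset.card hT
    rw [card_roots_eq, Multiset.card_add] at h3
    have : S.val.card = S.card := rfl
    omega
  obtain ⟨w, rfl⟩ := Multiset.card_eq_one.1 h2
  refine ⟨w, root_mem.1 (by rw [hT]; simp), ?_⟩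
  rw [det_eq_prod_roots_charpoly, hT, Multiset.prod_add, Multiset.prod_singleton, Finset.prod_eq_multiset_prod,
    Multiset.map_id']

/-- an eigenvalue detecting the prime `p` -/
theorem exists_eig {p m : ℕ} (hpK : (p : K) ≠ 0) (hn : n ≠ 0) (hm : 0 < m)
    (h1 : A ^ (p * m) = 1) (h2 : A ^ m ≠ 1) : ∃ z ∈ spectrum K A, z ^ m ≠ 1 ∧ z ^ (p * m) = 1 := by
  by_contra hcon
  push Not at hcon
  have : NeZero n := ⟨hn⟩
  apply h2
  -- all eigenvalues of `A ^ m` are `1`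
  have h3 : ∀ s ∈ spectrum K (A ^ m), s = 1 := by
    intro s hs
    rw [spectrum.map_pow_of_pos A hm] at hs
    obtain ⟨z, hz, rfl⟩ := hs
    by_contra hne
    refine hcon z hz hne ?_
    have h4 := spectrum.pow_mem_pow A (p * m) hz
    rw [h1] at h4
    simpa only [spectrum.one_eq, _root_.Set.mem_singleton_iff] using h4
  have h5 : (A ^ m).charpoly = (X - C 1) ^ n := by
    have h6 : (A ^ m).charpoly = ((A ^ m).charpoly.roots.map fun a => X - C a).prod :=
      (IsAlgClosed.splits _).eq_prod_roots_of_monic (charpoly_monic _)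
    have h7 : (A ^ m).charpoly.roots = Multiset.replicate n 1 := by
      rw [Multiset.eq_replicate]
      exact ⟨card_roots_eq _, fun s hs => h3 s (root_mem.1 hs)⟩
    rw [h6, h7, Multiset.map_replicate, Multiset.prod_replicate]
  -- `A ^ m - 1` is killed by `(X - 1) ^ n` and by `X ^ p - 1`
  have h8 : IsCoprime ((X - C 1 : K[X]) ^ n) (∑ i ∈ Finset.range p, (X : K[X]) ^ i) := by
    apply IsCoprime.pow_left
    rw [(irreducible_X_sub_C (1 : K)).coprime_iff_not_dvd, dvd_iff_isRoot, IsRoot, eval_finsetSum]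
    simpa only [_root_.Polynomial.eval_pow, _root_.Polynomial.eval_X, _root_.one_pow, _root_.Finset.sum_const, _root_.Finset.card_range, _root_.nsmul_eq_mul, _root_.mul_one, _root_.ne_eq] using hpK
  obtain ⟨a, b, hab⟩ := h8
  have h9 : aeval (A ^ m) ((X - C 1 : K[X]) ^ n) = 0 := by
    rw [← h5]
    exact aeval_self_charpoly _
  have h10 : aeval (A ^ m) ((X - C 1 : K[X]) * ∑ i ∈ Finset.range p, (X : K[X]) ^ i) = 0 := by
    have h11 : (X - C 1 : K[X]) * ∑ i ∈ Finset.range p, (X : K[X]) ^ i = X ^ p - 1 := by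
      rw [C_1, mul_geom_sum]
    rw [h11, map_sub, map_pow, aeval_X, map_one, ← pow_mul, mul_comm m p, h1, sub_self]
  have h12 : aeval (A ^ m) (X - C 1 : K[X]) = 0 := by
    have h13 : (X - C 1 : K[X]) = (X - C 1) * a * (X - C 1) ^ n + b * ((X - C 1) * ∑ i ∈ Finset.range p, (X : K[X]) ^ i) := by
      calc (X - C 1 : K[X]) = (X - C 1) * (a * (X - C 1) ^ n + b * ∑ i ∈ Finset.range p, (X : K[X]) ^ i) := by
            rw [hab, mul_one]
        _ = _ := by ring
    rw [h13, map_add, map_mul (aeval (A ^ m)) ((X - C 1) * a), map_mul (aeval (A ^ m)) b, h9, h10, mul_zero, mul_zero,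
      add_zero]
  rw [map_sub, aeval_X, aeval_C, map_one, sub_eq_zero] at h12
  exact h12

end alg

section orbit

variable {K : Type*} [Field K]

theorem zpow_ne {p m : ℕ} (hp : p.Prime) {z : Kˣ} (h1 : z ^ m ≠ 1) (h2 : z ^ (p * m) = 1) {a b : ℤ}
    (hab : ¬ (p : ℤ) ∣ a - b) : z ^ a ≠ z ^ b := by
  intro h
  have hF : Fact p.Prime := ⟨hp⟩
  have h3 : z ^ (a - b) = 1 := by rw [_root_.zpow_sub, h, mul_inv_cancel]
  have h4 : orderOf (z ^ m) = p := orderOf_eq_prime (by rw [← pow_mul, mul_comm]; exact h2) h1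
  apply hab
  rw [← h4, orderOf_dvd_iff_zpow_eq_one, ← _root_.zpow_natCast, ← _root_.zpow_mul, mul_comm, _root_.zpow_mul, h3, _root_.one_zpow]

/-- the orbit of `z` under `t ↦ t ^ (-q)` -/
def orb (q : ℕ) (z : Kˣ) (i : ℕ) : Kˣ := z ^ ((-(q : ℤ)) ^ i)

theorem orb_succ (q : ℕ) (z : Kˣ) (i : ℕ) : orb q z (i + 1) = ((orb q z i) ^ q)⁻¹ := by
  unfold orb
  rw [pow_succ, _root_.zpow_mul, _root_.zpow_neg, _root_.zpow_natCast]

theorem orb_zero (q : ℕ) (z : Kˣ) : orb q z 0 = z := by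
  unfold orb
  rw [pow_zero, _root_.zpow_one]

theorem orb_ne {p m q k : ℕ} (hp : p.Prime) (hpq : ¬ p ∣ q) (hord : ∀ e, 0 < e → e < k → ¬ (p : ℤ) ∣ (-(q : ℤ)) ^ e - 1)
    {z : Kˣ} (h1 : z ^ m ≠ 1) (h2 : z ^ (p * m) = 1) {i j : ℕ} (hij : i < j) (hjk : j < i + k) :
    orb q z i ≠ orb q z j := by
  apply zpow_ne hp h1 h2
  obtain ⟨e, rfl⟩ : ∃ e, j = i + e := ⟨j - i, by omega⟩
  intro h
  have h3 : (p : ℤ) ∣ (-(q : ℤ)) ^ i * ((-(q : ℤ)) ^ e - 1) := by
    rw [← dvd_neg]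
    have h4 : -((-(q : ℤ)) ^ i * ((-(q : ℤ)) ^ e - 1)) = (-(q : ℤ)) ^ i - (-(q : ℤ)) ^ (i + e) := by
      rw [pow_add]
      ring
    rw [h4]
    exact h
  rcases (Nat.prime_iff_prime_int.1 hp).dvd_or_dvd h3 with h4 | h4
  · have h5 := (Nat.prime_iff_prime_int.1 hp).dvd_of_dvd_pow h4
    rw [dvd_neg, Int.natCast_dvd_natCast] at h5
    exact hpq h5
  · exact hord e (by omega) (by omega) h4

theorem orb_fix {q : ℕ} {u : Kˣ} (hu : u ^ (q + 1) = 1) (i : ℕ) : orb q u i = u := by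
  induction i with
  | zero => exact orb_zero q u
  | succ i ih =>
    rw [orb_succ, ih]
    rw [inv_eq_iff_mul_eq_one, ← pow_succ, hu]

theorem orb_pow (q : ℕ) (z : Kˣ) (i M : ℕ) : (orb q z i) ^ M = orb q (z ^ M) i := by
  unfold orb
  rw [← _root_.zpow_natCast, ← _root_.zpow_natCast, ← _root_.zpow_mul, ← _root_.zpow_mul, mul_comm]

variable {n : ℕ} {A : Matrix (Fin n) (Fin n) K} {φ : K →+* K} {q : ℕ}

theorem orb_mem (hφ : ∀ x, φ x = x ^ q) (hA : Aᵀ * A.map φ = 1) {z : Kˣ} (hz : (z : K) ∈ spectrum K A) (i : ℕ) :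
    ((orb q z i : Kˣ) : K) ∈ spectrum K A := by
  induction i with
  | zero => rw [orb_zero]; exact hz
  | succ i ih =>
    have h1 := star_mem hA ih
    rw [orb_succ]
    rw [hφ] at h1
    simpa using h1

/-- the first `k` members of the orbit -/
noncomputable def orbSet (q : ℕ) (z : Kˣ) (k : ℕ) : Finset K := by
  classical exact (Finset.range k).image fun i => ((orb q z i : Kˣ) : K)

theorem mem_orbSet {z : Kˣ} {k : ℕ} {t : K} : t ∈ orbSet q z k ↔ ∃ i < k, ((orb q z i : Kˣ) : K) = t := by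
  classical
  unfold orbSet
  simp [Finset.mem_image]

theorem orbSet_inj {z : Kˣ} {k : ℕ} (h : ∀ i j, i < j → j < k → orb q z i ≠ orb q z j) :
    ∀ i < k, ∀ j < k, ((orb q z i : Kˣ) : K) = orb q z j → i = j := by
  intro i hi j hj hij
  have h1 := Units.ext hij
  rcases lt_trichotomy i j with h2 | h2 | h2
  · exact absurd h1 (h i j h2 hj)
  · exact h2
  · exact absurd h1.symm (h j i h2 hi)

theorem orbSet_card {z : Kˣ} {k : ℕ} (h : ∀ i j, i < j → j < k → orb q z i ≠ orb q z j) : (orbSet q z k).card = k := by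
  classical
  unfold orbSet
  rw [Finset.card_image_of_injOn, Finset.card_range]
  intro i hi j hj hij
  exact orbSet_inj h i (by simpa using hi) j (by simpa using hj) hij

theorem orbSet_prod {z : Kˣ} {k : ℕ} (h : ∀ i j, i < j → j < k → orb q z i ≠ orb q z j) :
    ∏ t ∈ orbSet q z k, t = ((∏ i ∈ Finset.range k, orb q z i : Kˣ) : K) := by
  classical
  unfold orbSet
  rw [Finset.prod_image]
  · simp
  · intro i hi j hj hij
    exact orbSet_inj h i (by simpa using hi) j (by simpa using hj) hij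

end orbit

section three

variable {K : Type*} [Field K] [IsAlgClosed K] {φ : K →+* K} {q : ℕ}

/-- degree 3 -/
theorem three {A : Matrix (Fin 3) (Fin 3) K} (hφ : ∀ x, φ x = x ^ q) (hA : Aᵀ * A.map φ = 1) (hdet : A.det = 1)
    {p : ℕ} (hp : p.Prime) (hpK : (p : K) ≠ 0) (hpq : ¬ p ∣ q)
    (hord : ∀ e, 0 < e → e < 3 → ¬ (p : ℤ) ∣ (-(q : ℤ)) ^ e - 1) {m : ℕ} (hm : 0 < m)
    (h1 : A ^ (p * m) = 1) (h2 : A ^ m ≠ 1) {M d : ℕ} (hM : ((M * d : ℕ) : ℤ) = 1 - q + q ^ 2) (hd : d ∣ q + 1)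
    (h0 : 0 < M) : ∃ u : K, A ^ M = scalar (Fin 3) u := by
  obtain ⟨z0, hz, hz1, hz2⟩ := exists_eig hpK (by norm_num) hm h1 h2
  have hz0 : z0 ≠ 0 := by
    rintro rfl
    rw [zero_pow (Nat.mul_pos hp.pos hm).ne'] at hz2
    exact zero_ne_one hz2
  obtain ⟨z, rfl⟩ : ∃ z : Kˣ, (z : K) = z0 := ⟨Units.mk0 z0 hz0, rfl⟩
  have hz1' : z ^ m ≠ 1 := fun h => hz1 (by rw [← Units.val_pow_eq_pow_val, h, Units.val_one])
  have hz2' : z ^ (p * m) = 1 := Units.ext (by rw [Units.val_pow_eq_pow_val, hz2, Units.val_one])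
  have hne : ∀ i j, i < j → j < 3 → orb q z i ≠ orb q z j := fun i j hij hj =>
    orb_ne hp hpq hord hz1' hz2' hij (by omega)
  have hS : ∀ t ∈ orbSet q z 3, t ∈ spectrum K A := by
    intro t ht
    obtain ⟨i, -, rfl⟩ := mem_orbSet.1 ht
    exact orb_mem hφ hA hz i
  have hprod := prod_eq hS (orbSet_card hne)
  rw [orbSet_prod hne, hdet] at hprod
  have h3 : (∏ i ∈ Finset.range 3, orb q z i : Kˣ) = 1 := Units.ext hprod
  have h4 : z ^ (M * d) = 1 := by
    rw [← _root_.zpow_natCast, hM, ← h3]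
    simp only [Finset.prod_range_succ, Finset.prod_range_zero, one_mul, orb, pow_zero, pow_one, _root_.zpow_one]
    rw [_root_.zpow_add, _root_.zpow_sub, _root_.zpow_one, _root_.zpow_neg]
    congr 2
    ring_nf
  have hu : (z ^ M) ^ (q + 1) = 1 := by
    obtain ⟨c, hc⟩ := hd
    rw [hc, ← pow_mul, ← mul_assoc, pow_mul, h4, one_pow]
  refine ⟨((z ^ M : Kˣ) : K), pow_eq hS (orbSet_card hne) ?_ h0⟩
  intro t ht
  obtain ⟨i, -, rfl⟩ := mem_orbSet.1 ht
  rw [← Units.val_pow_eq_pow_val, orb_pow, orb_fix hu]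

/-- degree 4, `p ∣ q ^ 2 + 1` -/
theorem four' {A : Matrix (Fin 4) (Fin 4) K} (hφ : ∀ x, φ x = x ^ q) (hA : Aᵀ * A.map φ = 1) (hdet : A.det = 1)
    {p : ℕ} (hp : p.Prime) (hpK : (p : K) ≠ 0) (hpq : ¬ p ∣ q)
    (hord : ∀ e, 0 < e → e < 4 → ¬ (p : ℤ) ∣ (-(q : ℤ)) ^ e - 1) {m : ℕ} (hm : 0 < m)
    (h1 : A ^ (p * m) = 1) (h2 : A ^ m ≠ 1) {M d : ℕ} (hM : ((M * d : ℕ) : ℤ) = (q - 1) * (q ^ 2 + 1))
    (hd : d ∣ q + 1) (h0 : 0 < M) : ∃ u : K, A ^ M = scalar (Fin 4) u := by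
  obtain ⟨z0, hz, hz1, hz2⟩ := exists_eig hpK (by norm_num) hm h1 h2
  have hz0 : z0 ≠ 0 := by
    rintro rfl
    rw [zero_pow (Nat.mul_pos hp.pos hm).ne'] at hz2
    exact zero_ne_one hz2
  obtain ⟨z, rfl⟩ : ∃ z : Kˣ, (z : K) = z0 := ⟨Units.mk0 z0 hz0, rfl⟩
  have hz1' : z ^ m ≠ 1 := fun h => hz1 (by rw [← Units.val_pow_eq_pow_val, h, Units.val_one])
  have hz2' : z ^ (p * m) = 1 := Units.ext (by rw [Units.val_pow_eq_pow_val, hz2, Units.val_one])
  have hne : ∀ i j, i < j → j < 4 → orb q z i ≠ orb q z j := fun i j hij hj =>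
    orb_ne hp hpq hord hz1' hz2' hij (by omega)
  have hS : ∀ t ∈ orbSet q z 4, t ∈ spectrum K A := by
    intro t ht
    obtain ⟨i, -, rfl⟩ := mem_orbSet.1 ht
    exact orb_mem hφ hA hz i
  have hprod := prod_eq hS (orbSet_card hne)
  rw [orbSet_prod hne, hdet] at hprod
  have h3 : (∏ i ∈ Finset.range 4, orb q z i : Kˣ) = 1 := Units.ext hprod
  have h4 : z ^ (M * d) = 1 := by
    rw [← _root_.zpow_natCast, hM, ← _root_.inv_inj, inv_one, ← _root_.zpow_neg, ← h3]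
    simp only [Finset.prod_range_succ, Finset.prod_range_zero, one_mul, orb, ← _root_.zpow_add]
    congr 1
    ring
  have hu : (z ^ M) ^ (q + 1) = 1 := by
    obtain ⟨c, hc⟩ := hd
    rw [hc, ← pow_mul, ← mul_assoc, pow_mul, h4, one_pow]
  refine ⟨((z ^ M : Kˣ) : K), pow_eq hS (orbSet_card hne) ?_ h0⟩
  intro t ht
  obtain ⟨i, -, rfl⟩ := mem_orbSet.1 ht
  rw [← Units.val_pow_eq_pow_val, orb_pow, orb_fix hu]

/-- degree 4, `p ∣ q ^ 2 - q + 1` -/
theorem four {A : Matrix (Fin 4) (Fin 4) K} (hφ : ∀ x, φ x = x ^ q) (hA : Aᵀ * A.map φ = 1) (hdet : A.det = 1)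
    {p : ℕ} (hp : p.Prime) (hpK : (p : K) ≠ 0) (hpq : ¬ p ∣ q)
    (hord : ∀ e, 0 < e → e < 3 → ¬ (p : ℤ) ∣ (-(q : ℤ)) ^ e - 1) (hp3 : (p : ℤ) ∣ 1 - q + q ^ 2) {m : ℕ} (hm : 0 < m)
    (h1 : A ^ (p * m) = 1) (h2 : A ^ m ≠ 1) {M d : ℕ} (hM : M * d = q ^ 3 + 1)
    (hd : d ∣ q + 1) (hd4 : d ∣ 4) (h0 : 0 < M) : ∃ u : K, A ^ M = scalar (Fin 4) u := by
  classical
  obtain ⟨z0, hz, hz1, hz2⟩ := exists_eig hpK (by norm_num) hm h1 h2
  have hz0 : z0 ≠ 0 := by
    rintro rfl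
    rw [zero_pow (Nat.mul_pos hp.pos hm).ne'] at hz2
    exact zero_ne_one hz2
  obtain ⟨z, rfl⟩ : ∃ z : Kˣ, (z : K) = z0 := ⟨Units.mk0 z0 hz0, rfl⟩
  have hz1' : z ^ m ≠ 1 := fun h => hz1 (by rw [← Units.val_pow_eq_pow_val, h, Units.val_one])
  have hz2' : z ^ (p * m) = 1 := Units.ext (by rw [Units.val_pow_eq_pow_val, hz2, Units.val_one])
  have hne : ∀ i j, i < j → j < i + 3 → orb q z i ≠ orb q z j := fun i j hij hj =>
    orb_ne hp hpq hord hz1' hz2' hij hj
  have hmem := orb_mem hφ hA hz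
  have hS3 : ∀ t ∈ orbSet q z 3, t ∈ spectrum K A := by
    intro t ht
    obtain ⟨i, -, rfl⟩ := mem_orbSet.1 ht
    exact hmem i
  -- `orb 3 = orb 0`
  have h30 : orb q z 3 = orb q z 0 := by
    by_contra hcon
    have hne4 : ∀ i j, i < j → j < 4 → orb q z i ≠ orb q z j := by
      intro i j hij hj
      by_cases h : j < i + 3
      · exact hne i j hij h
      · have hi : i = 0 := by omega
        have hj : j = 3 := by omega
        subst hi hj
        exact fun h => hcon h.symm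
    have hS4 : ∀ t ∈ orbSet q z 4, t ∈ spectrum K A := by
      intro t ht
      obtain ⟨i, -, rfl⟩ := mem_orbSet.1 ht
      exact hmem i
    have h4 := mem_of hS4 (orbSet_card hne4) (hmem 4)
    obtain ⟨i, hi, hi4⟩ := mem_orbSet.1 h4
    have hi4' := Units.ext hi4
    have hi2 : i < 2 := by
      by_contra h
      exact hne i 4 (by omega) (by omega) hi4'
    interval_cases i
    · -- `orb 0 = orb 4`
      refine zpow_ne hp hz1' hz2' ?_ hi4'
      intro h
      have h5 : (p : ℤ) ∣ (-(q : ℤ)) ^ 1 - 1 := by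
        have h6 : (-(q : ℤ)) ^ 1 - 1 = -((-(q : ℤ)) ^ 0 - (-(q : ℤ)) ^ 4) - q * (q + 1) * (1 - q + q ^ 2) := by ring
        rw [h6]
        exact dvd_sub (dvd_neg.2 h) (Dvd.dvd.mul_left hp3 _)
      exact hord 1 (by norm_num) (by norm_num) h5
    · -- `orb 1 = orb 4`
      apply hcon
      rw [orb_succ, orb_succ q z 3, _root_.inv_inj] at hi4'
      have h5 : φ (orb q z 0 : Kˣ) = φ (orb q z 3 : Kˣ) := by
        rw [hφ, hφ, ← Units.val_pow_eq_pow_val, ← Units.val_pow_eq_pow_val, hi4']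
      exact (Units.ext (φ.injective h5)).symm
  have hz3 : z ^ (q ^ 3 + 1) = 1 := by
    rw [orb_zero] at h30
    unfold orb at h30
    have h5 : z ^ ((-(q : ℤ)) ^ 3) = (z ^ (q ^ 3))⁻¹ := by
      rw [← _root_.zpow_natCast, ← _root_.zpow_neg]
      congr 1
      push_cast
      ring
    rw [h5, inv_eq_iff_mul_eq_one, ← pow_succ] at h30
    exact h30
  have hc3 : (orbSet q z 3).card = 3 := orbSet_card (fun i j hij hj => hne i j hij (by omega))
  obtain ⟨w0, hw, hwp⟩ := last hS3 (by rw [hc3])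
  rw [orbSet_prod (fun i j hij hj => hne i j hij (by omega)), hdet] at hwp
  have hw0 : w0 ≠ 0 := by
    rintro rfl
    rw [mul_zero] at hwp
    exact zero_ne_one hwp
  obtain ⟨w, rfl⟩ : ∃ w : Kˣ, (w : K) = w0 := ⟨Units.mk0 w0 hw0, rfl⟩
  have hwz : w = z ^ (-(1 - (q : ℤ) + q ^ 2)) := by
    have h5 : (∏ i ∈ Finset.range 3, orb q z i : Kˣ) * w = 1 := Units.ext hwp
    rw [_root_.zpow_neg, ← mul_eq_one_iff_eq_inv, mul_comm, ← h5]
    congr 1
    simp only [Finset.prod_range_succ, Finset.prod_range_zero, one_mul, orb, ← _root_.zpow_add]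
    congr 1
    ring
  have hwS : (w : K) ∉ orbSet q z 3 := by
    intro h
    obtain ⟨i, -, hi⟩ := mem_orbSet.1 h
    have hi' := Units.ext hi
    rw [hwz] at hi'
    refine zpow_ne hp hz1' hz2' ?_ hi'
    intro h5
    have h6 : (p : ℤ) ∣ (-(q : ℤ)) ^ i := by
      have h7 := dvd_sub h5 hp3
      have h8 : (-(q : ℤ)) ^ i - -(1 - (q : ℤ) + q ^ 2) - (1 - q + q ^ 2) = (-(q : ℤ)) ^ i := by ring
      rw [h8] at h7
      exact h7
    have h7 := (Nat.prime_iff_prime_int.1 hp).dvd_of_dvd_pow h6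
    rw [dvd_neg, Int.natCast_dvd_natCast] at h7
    exact hpq h7
  have hS : ∀ t ∈ insert (w : K) (orbSet q z 3), t ∈ spectrum K A := by
    intro t ht
    rcases Finset.mem_insert.1 ht with rfl | ht
    · exact hw
    · exact hS3 t ht
  have hc : (insert (w : K) (orbSet q z 3)).card = 4 := by rw [Finset.card_insert_of_notMem hwS, hc3]
  have hud : (z ^ M) ^ d = 1 := by rw [← pow_mul, hM, hz3]
  have hu : (z ^ M) ^ (q + 1) = 1 := by
    obtain ⟨c, hc⟩ := hd
    rw [hc, pow_mul, hud, one_pow]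
  have hu4 : (z ^ M) ^ 4 = 1 := by
    obtain ⟨c, hc⟩ := hd4
    rw [hc, pow_mul, hud, one_pow]
  refine ⟨((z ^ M : Kˣ) : K), pow_eq hS hc ?_ h0⟩
  intro t ht
  rcases Finset.mem_insert.1 ht with rfl | ht
  · rw [← Units.val_pow_eq_pow_val, hwz]
    congr 1
    rw [← _root_.zpow_natCast (z ^ _) M, ← _root_.zpow_mul, mul_comm, _root_.zpow_mul, _root_.zpow_natCast]
    have h5 : -(1 - (q : ℤ) + q ^ 2) = 1 - ((q + 1 : ℕ) : ℤ) * (q - 2) - ((4 : ℕ) : ℤ) := by
      push_cast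
      ring
    rw [h5, _root_.zpow_sub, _root_.zpow_sub, _root_.zpow_one, _root_.zpow_mul, _root_.zpow_natCast, _root_.zpow_natCast, hu, hu4, _root_.one_zpow, inv_one, mul_one,
      mul_one]
  · obtain ⟨i, -, rfl⟩ := mem_orbSet.1 ht
    rw [← Units.val_pow_eq_pow_val, orb_pow, orb_fix hu]

end three

/-! ### the groups -/

section psu

variable {F : Type*} [Field F] [Fintype F] {n q : ℕ}

theorem pow_ringHom (hF : Fintype.card F = q ^ 2) (K : Type*) [Field K] [Algebra F K] :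
    ∃ φ : K →+* K, ∀ x, φ x = x ^ q := by
  obtain ⟨ℓ, hc⟩ := CharP.exists F
  have hℓ := (FiniteField.card F ℓ)
  obtain ⟨a, hp, ha⟩ := hℓ
  have : Fact ℓ.Prime := ⟨hp⟩
  have h1 : q ∣ ℓ ^ (a : ℕ) := by
    rw [← ha, hF]
    exact dvd_pow_self q (by norm_num)
  obtain ⟨k, -, hk⟩ := (Nat.dvd_prime_pow hp).1 h1
  have : CharP K ℓ := charP_of_injective_algebraMap (algebraMap F K).injective ℓ
  have : ExpChar K ℓ := ExpChar.prime hp
  exact ⟨iterateFrobenius K ℓ k, fun x => by rw [iterateFrobenius_def, hk]⟩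

omit [Fintype F] in
theorem su_mat {g : _root_.Matrix.SpecialLinearGroup (Fin n) F} (hg : g ∈ SU n F q) (hq : 0 < q) :
    (g : Matrix (Fin n) (Fin n) F)ᵀ * (g : Matrix (Fin n) (Fin n) F).map (fun x => x ^ q) = 1 := by
  rw [ChevalleyStructure.FieldIso.mem_SU_iff] at hg
  ext i j
  have h1 := hg (Pi.single i 1) (Pi.single j 1)
  rw [Matrix.mulVec_single_one, Matrix.mulVec_single_one] at h1
  unfold hermForm at h1
  rw [Matrix.mul_apply]
  simp only [transpose_apply, map_apply]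
  have h2 : ∑ k, (Pi.single i (1 : F) : Fin n → F) k * ((Pi.single j (1 : F) : Fin n → F) k) ^ q = if i = j then 1 else 0 := by
    rw [Finset.sum_eq_single i]
    · by_cases h : i = j
      · subst h
        simp
      · rw [if_neg h, Pi.single_eq_of_ne (M := fun _ => F) h, zero_pow hq.ne', mul_zero]
    · intro k _ hk
      rw [Pi.single_eq_of_ne (M := fun _ => F) hk, zero_mul]
    · intro h
      exact absurd (Finset.mem_univ i) h
  rw [h2] at h1
  rw [Matrix.one_apply, ← h1]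
  rfl

/-- from matrices over the algebraic closure to the group -/
theorem of_matrix (hF : Fintype.card F = q ^ 2) {p M : ℕ} (hp : p.Prime)
    (H : ∀ (A : Matrix (Fin n) (Fin n) (AlgebraicClosure F)) (φ : AlgebraicClosure F →+* AlgebraicClosure F) (m : ℕ),
      (∀ x, φ x = x ^ q) → Aᵀ * A.map φ = 1 → A.det = 1 → 0 < m → A ^ (p * m) = 1 → A ^ m ≠ 1 →
      ∃ u, A ^ M = scalar (Fin n) u) (x : PSU n F q) (hx : p ∣ orderOf x) : x ^ M = 1 := by
  have hq : 0 < q := by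
    rcases Nat.eq_zero_or_pos q with h | h
    · rw [h] at hF
      have := Fintype.card_pos (α := F)
      omega
    · exact h
  obtain ⟨φ, hφ⟩ := pow_ringHom hF (AlgebraicClosure F)
  obtain ⟨g, rfl⟩ := QuotientGroup.mk'_surjective _ x
  have h1 : p ∣ orderOf g := hx.trans (orderOf_map_dvd _ g)
  obtain ⟨m, hm⟩ := h1
  have hg0 : 0 < orderOf g := orderOf_pos g
  have hm0 : 0 < m := by
    rcases Nat.eq_zero_or_pos m with h | h
    · rw [h, mul_zero] at hm
      omega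
    · exact h
  let f : SU n F q →* Matrix (Fin n) (Fin n) (AlgebraicClosure F) :=
    ((algebraMap F (AlgebraicClosure F)).mapMatrix.toMonoidHom).comp ((slToMat n F).comp (SU n F q).subtype)
  have hf : ∀ h : SU n F q, f h = ((h : _root_.Matrix.SpecialLinearGroup (Fin n) F) : Matrix (Fin n) (Fin n) F).map
      (algebraMap F (AlgebraicClosure F)) := fun h => rfl
  have hinj : ∀ h k : SU n F q, f h = f k → h = k := by
    intro h k hhk
    apply Subtype.ext
    apply Subtype.ext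
    exact Matrix.map_injective (algebraMap F (AlgebraicClosure F)).injective hhk
  obtain ⟨u, hu⟩ := H (f g) φ m hφ (by
      rw [hf]
      have h2 : ((g.1.1)ᵀ * (g.1.1).map (fun x => x ^ q)).map (algebraMap F (AlgebraicClosure F)) =
          (1 : Matrix (Fin n) (Fin n) F).map (algebraMap F (AlgebraicClosure F)) :=
        congrArg (fun B : Matrix (Fin n) (Fin n) F => B.map (algebraMap F (AlgebraicClosure F))) (su_mat g.2 hq)
      rw [Matrix.map_mul, Matrix.map_one _ (map_zero _) (map_one _)] at h2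
      rw [← h2]
      congr 1
      ext i j
      change φ (algebraMap F (AlgebraicClosure F) (g.1.1 i j)) = algebraMap F (AlgebraicClosure F) ((g.1.1 i j) ^ q)
      rw [hφ, map_pow]) (by
      rw [hf, ← RingHom.mapMatrix_apply, ← RingHom.map_det]
      change algebraMap F (AlgebraicClosure F) (g.1.1.det) = 1
      rw [g.1.2, map_one]) hm0 (by
      rw [← map_pow, ← hm, pow_orderOf_eq_one, map_one]) (by
      intro h
      have h3 : g ^ m = 1 := hinj _ _ (by rw [map_pow, h, map_one])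
      have h4 := orderOf_dvd_of_pow_eq_one h3
      rw [hm] at h4
      have h5 := Nat.le_of_dvd hm0 h4
      have h6 := hp.two_le
      nlinarith only [hm0, h5, h6])
  rw [← map_pow]
  rw [QuotientGroup.mk'_apply, QuotientGroup.eq_one_iff, Subgroup.mem_center_iff]
  intro h
  apply hinj
  rw [map_mul, map_mul, map_pow f g M, hu]
  exact ((scalar_commute u (fun r => mul_comm _ _) (f h)).eq).symm

theorem cast_ne (hF : Fintype.card F = q ^ 2) {p : ℕ} (hp : p.Prime) (hpq : ¬ p ∣ q) :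
    (p : AlgebraicClosure F) ≠ 0 := by
  intro h
  obtain ⟨ℓ, hc⟩ := CharP.exists F
  obtain ⟨a, hl, ha⟩ := FiniteField.card F ℓ
  have : CharP (AlgebraicClosure F) ℓ :=
    charP_of_injective_algebraMap (algebraMap F (AlgebraicClosure F)).injective ℓ
  have h1 : ℓ ∣ p := (CharP.cast_eq_zero_iff (AlgebraicClosure F) ℓ p).1 h
  have h2 : ℓ = p := (Nat.prime_dvd_prime_iff_eq hl hp).1 h1
  subst h2
  apply hpq
  apply hl.dvd_of_dvd_pow (n := 2)
  rw [← hF, ha]
  exact dvd_pow_self _ a.pos.ne'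

theorem int_three {p : ℕ} (hpq : p ∣ q ^ 2 - q + 1) : (p : ℤ) ∣ 1 - q + q ^ 2 := by
  have h1 : q ≤ q ^ 2 := by linarith only [Nat.le_self_pow (n := 2) (by norm_num) q]
  have h2 : ((q ^ 2 - q + 1 : ℕ) : ℤ) = 1 - q + q ^ 2 := by
    push_cast [Nat.cast_sub h1]
    ring
  rw [← h2]
  exact Int.natCast_dvd_natCast.2 hpq

theorem ord_three {p : ℕ} (hp : p.Prime) (hpq : p ∣ q ^ 2 - q + 1) (hp3 : p ≠ 3) :
    ¬ p ∣ q ∧ ∀ e, 0 < e → e < 3 → ¬ (p : ℤ) ∣ (-(q : ℤ)) ^ e - 1 := by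
  have hI := int_three hpq
  have hpZ := Nat.prime_iff_prime_int.1 hp
  have h1 : ¬ (p : ℤ) ∣ 1 := fun h => hpZ.not_isUnit (isUnit_of_dvd_one h)
  have hplus : ¬ (p : ℤ) ∣ q + 1 := by
    intro h
    have h2 : (p : ℤ) ∣ 3 := by
      have h3 : (3 : ℤ) = (1 - q + q ^ 2) - (q + 1) * (q - 2) := by ring
      rw [h3]
      exact dvd_sub hI (Dvd.dvd.mul_right h _)
    have h3 : p ∣ 3 := by exact_mod_cast h2
    exact hp3 ((Nat.prime_dvd_prime_iff_eq hp Nat.prime_three).1 h3)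
  refine ⟨?_, ?_⟩
  · intro h
    apply h1
    have h2 : (p : ℤ) ∣ q := Int.natCast_dvd_natCast.2 h
    have h3 : (1 : ℤ) = (1 - q + q ^ 2) - q * (q - 1) := by ring
    rw [h3]
    exact dvd_sub hI (Dvd.dvd.mul_right h2 _)
  · intro e he he3 h
    interval_cases e
    · apply hplus
      rw [← dvd_neg]
      have h3 : -((q : ℤ) + 1) = (-(q : ℤ)) ^ 1 - 1 := by ring
      rw [h3]
      exact h
    · have h3 : (-(q : ℤ)) ^ 2 - 1 = (q - 1) * (q + 1) := by ring
      rw [h3] at h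
      rcases hpZ.dvd_or_dvd h with h4 | h4
      · apply h1
        have h5 : (1 : ℤ) = (1 - q + q ^ 2) - (q - 1) * q := by ring
        rw [h5]
        exact dvd_sub hI (Dvd.dvd.mul_right h4 _)
      · exact hplus h4

theorem ord_four {p : ℕ} (hp : p.Prime) (hpq : p ∣ q ^ 2 + 1) (hp2 : p ≠ 2) :
    ¬ p ∣ q ∧ ∀ e, 0 < e → e < 4 → ¬ (p : ℤ) ∣ (-(q : ℤ)) ^ e - 1 := by
  have hI : (p : ℤ) ∣ q ^ 2 + 1 := by exact_mod_cast hpq
  have hpZ := Nat.prime_iff_prime_int.1 hp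
  have h1 : ¬ (p : ℤ) ∣ 1 := fun h => hpZ.not_isUnit (isUnit_of_dvd_one h)
  have h2 : ¬ (p : ℤ) ∣ 2 := by
    intro h
    have h3 : p ∣ 2 := by exact_mod_cast h
    exact hp2 ((Nat.prime_dvd_prime_iff_eq hp Nat.prime_two).1 h3)
  refine ⟨?_, ?_⟩
  · intro h
    apply h1
    have h2 : (p : ℤ) ∣ q := Int.natCast_dvd_natCast.2 h
    have h3 : (1 : ℤ) = (q ^ 2 + 1) - q * q := by ring
    rw [h3]
    exact dvd_sub hI (Dvd.dvd.mul_right h2 _)
  · intro e he he3 h
    apply h2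
    interval_cases e
    · have h3 : (2 : ℤ) = (q ^ 2 + 1) + ((-(q : ℤ)) ^ 1 - 1) * (q - 1) := by ring
      rw [h3]
      exact dvd_add hI (Dvd.dvd.mul_right h _)
    · have h3 : (2 : ℤ) = (q ^ 2 + 1) - ((-(q : ℤ)) ^ 2 - 1) := by ring
      rw [h3]
      exact dvd_sub hI h
    · have h4 : (p : ℤ) ∣ q - 1 := by
        have h3 : (q : ℤ) - 1 = q * (q ^ 2 + 1) + ((-(q : ℤ)) ^ 3 - 1) := by ring
        rw [h3]
        exact dvd_add (Dvd.dvd.mul_left hI _) h
      have h3 : (2 : ℤ) = (q ^ 2 + 1) - (q - 1) * (q + 1) := by ring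
      rw [h3]
      exact dvd_sub hI (Dvd.dvd.mul_right h4 _)

/-- **`PSU(3, q)`**, `p ∣ q ^ 2 - q + 1` -/
theorem psu_three (hF : Fintype.card F = q ^ 2) {p : ℕ} (hp : p.Prime) (hpq : p ∣ q ^ 2 - q + 1) (hp3 : p ≠ 3)
    {M : ℕ} (hM : M * Nat.gcd 3 (q + 1) = q ^ 2 - q + 1) (x : PSU 3 F q) (hx : p ∣ orderOf x) : x ^ M = 1 := by
  obtain ⟨h1, h2⟩ := ord_three hp hpq hp3
  refine of_matrix hF hp ?_ x hx
  intro A φ m hφ hA hdet hm hA1 hA2
  refine three hφ hA hdet hp (cast_ne hF hp h1) h1 h2 hm hA1 hA2 (d := Nat.gcd 3 (q + 1)) ?_ (Nat.gcd_dvd_right _ _) ?_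
  · have h3 : q ≤ q ^ 2 := Nat.le_self_pow (by norm_num) q
    rw [hM]
    push_cast [Nat.cast_sub h3]
    ring
  · apply Nat.pos_of_ne_zero
    rintro rfl
    omega

/-- **`PSU(4, q)`**, `p ∣ q ^ 2 - q + 1` -/
theorem psu_four (hF : Fintype.card F = q ^ 2) {p : ℕ} (hp : p.Prime) (hpq : p ∣ q ^ 2 - q + 1) (hp3 : p ≠ 3)
    {M : ℕ} (hM : M * Nat.gcd 4 (q + 1) = q ^ 3 + 1) (x : PSU 4 F q) (hx : p ∣ orderOf x) : x ^ M = 1 := by
  obtain ⟨h1, h2⟩ := ord_three hp hpq hp3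
  refine of_matrix hF hp ?_ x hx
  intro A φ m hφ hA hdet hm hA1 hA2
  refine four hφ hA hdet hp (cast_ne hF hp h1) h1 h2 (int_three hpq) hm hA1 hA2 (d := Nat.gcd 4 (q + 1)) hM
    (Nat.gcd_dvd_right _ _) (Nat.gcd_dvd_left _ _) ?_
  apply Nat.pos_of_ne_zero
  rintro rfl
  omega

/-- **`PSU(4, q)`**, `p ∣ q ^ 2 + 1` -/
theorem psu_four' (hF : Fintype.card F = q ^ 2) {p : ℕ} (hp : p.Prime) (hpq : p ∣ q ^ 2 + 1) (hp2 : p ≠ 2)
    {M : ℕ} (hM : M * Nat.gcd 4 (q + 1) = (q - 1) * (q ^ 2 + 1)) (hq : 1 < q) (x : PSU 4 F q) (hx : p ∣ orderOf x) :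
    x ^ M = 1 := by
  obtain ⟨h1, h2⟩ := ord_four hp hpq hp2
  refine of_matrix hF hp ?_ x hx
  intro A φ m hφ hA hdet hm hA1 hA2
  refine four' hφ hA hdet hp (cast_ne hF hp h1) h1 h2 hm hA1 hA2 (d := Nat.gcd 4 (q + 1)) ?_ (Nat.gcd_dvd_right _ _) ?_
  · rw [hM]
    push_cast [Nat.cast_sub hq.le]
    ring
  · apply Nat.pos_of_ne_zero
    rintro rfl
    rw [zero_mul] at hM
    have h3 : 0 < (q - 1) * (q ^ 2 + 1) := Nat.mul_pos (by omega) (by positivity)
    omega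

end psu

end Cfsg.Agent.H418.SUEig

private theorem dce_990101d970bf : _root_.True := by
  try have : _root_.True := by simp only [_root_.Cfsg.Agent.H418.SUEig.orb.eq_1]
  exact _root_.True.intro
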