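import Mathlib
import Cfsg.Agent.Lib.MinNormal
import Cfsg.Agent.Lib.SubnormalJoin
import Cfsg.Agent.H341.ThreeList_m3
import Cfsg.Agent.FastGrp
import Cfsg.Agent.Prune
set_option linter.all false
prune_inst 0x7f00000000000000000000000000000000000000000000000000000000000000000000000000000000000000000000000000000000000000000000000000000000000000000000000000000000000000003fffffffffffffffffffffffffffbeffbdffffffff
open scoped Cfsg.Agent.FastGrp

-- part: H418/ChiefP
section
/-!
# Chief factors of order divisible by a prime dividing the order exactly once (helper418)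

* `cent_sylow`, `cent_of_num` : an element `x` of order `p` centralises a normal `p'`-subgroup `N` if no prime power
  `r ^ i` dividing `|N|`, `i ≥ 1`, is `1` modulo `p`.
* `exists_chief` : if `p` divides `|G|` exactly once, there is a normal `p'`-subgroup `N` such that `G ⧸ N` has a simple
  normal subgroup `V` of order divisible by `p`, and no nontrivial normal `p'`-subgroup.
* `normal_of_cyclic` : if `V` has order `p` and the numerical condition holds then `G` has a normal subgroup of order `p`.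
-/

set_option autoImplicit false

namespace Cfsg.Agent.H418.ChiefP

open scoped Pointwise

universe u

set_option linter.unusedSectionVars false

variable {G : Type u} [Group G] [Finite G]

/-- the conjugates of `x` under `R` number `1` modulo `p` -/
theorem card_conj_modEq {p : ℕ} (hp : p.Prime) (N : Subgroup G) [N.Normal] {x : G} (hx : orderOf x = p)
    (hpN : ¬ p ∣ Nat.card N) (R : Subgroup G) (hR : R ≤ N) (hxR : ∀ y ∈ R, x * y * x⁻¹ ∈ R) :
    Nat.card {z : G // ∃ y ∈ R, z = y * x * y⁻¹} ≡ 1 [MOD p] := by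
  classical
  have hpF : Fact p.Prime := ⟨hp⟩
  have hxk : ∀ g ∈ Subgroup.zpowers x, ∀ y ∈ R, g * y * g⁻¹ ∈ R := by
    intro g hg
    obtain ⟨k, rfl⟩ := (Subgroup.mem_zpowers_iff.1 hg)
    have hpow : ∀ k : ℕ, ∀ y ∈ R, x ^ k * y * (x ^ k)⁻¹ ∈ R := by
      intro k
      induction k with
      | zero => intro y hy; simpa using hy
      | succ k ih =>
        intro y hy
        have := ih _ (hxR y hy)
        have h2 : x ^ (k + 1) * y * (x ^ (k + 1))⁻¹ = x ^ k * (x * y * x⁻¹) * (x ^ k)⁻¹ := by
          rw [pow_succ]; group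
        rw [h2]
        exact this
    obtain ⟨m, hm⟩ : ∃ m : ℕ, x ^ k = x ^ m := by
      have h1 : x ^ k ∈ Submonoid.powers x := by
        rw [mem_powers_iff_mem_zpowers]
        exact ⟨k, rfl⟩
      obtain ⟨m, hm⟩ := h1
      exact ⟨m, hm.symm⟩
    intro y hy
    rw [hm]
    exact hpow m y hy
  let X := {z : G // ∃ y ∈ R, z = y * x * y⁻¹}
  let act : MulAction (Subgroup.zpowers x) X :=
    { smul := fun g z => ⟨g.1 * z.1 * g.1⁻¹, by
        obtain ⟨y, hy, hz⟩ := z.2
        refine ⟨g.1 * y * g.1⁻¹, hxk g.1 g.2 y hy, ?_⟩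
        rw [hz]
        have hcomm : g.1 * x = x * g.1 := by
          obtain ⟨k, hk⟩ := Subgroup.mem_zpowers_iff.1 g.2
          rw [← hk]
          exact (Commute.refl x).zpow_left k
        calc g.1 * (y * x * y⁻¹) * g.1⁻¹ = g.1 * y * g.1⁻¹ * (g.1 * x) * g.1⁻¹ * (g.1 * y * g.1⁻¹)⁻¹ := by group
          _ = g.1 * y * g.1⁻¹ * (x * g.1) * g.1⁻¹ * (g.1 * y * g.1⁻¹)⁻¹ := by rw [hcomm]
          _ = g.1 * y * g.1⁻¹ * x * (g.1 * y * g.1⁻¹)⁻¹ := by group⟩
      one_smul := fun z => Subtype.ext (by
        show (1 : G) * z.1 * (1 : G)⁻¹ = z.1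
        simp)
      mul_smul := fun g h z => Subtype.ext (by
        show (g.1 * h.1) * z.1 * (g.1 * h.1)⁻¹ = g.1 * (h.1 * z.1 * h.1⁻¹) * g.1⁻¹
        group) }
  have hP : IsPGroup p (Subgroup.zpowers x) := by
    apply IsPGroup.of_card (n := 1)
    rw [Nat.card_zpowers, hx, pow_one]
  have h1 := hP.card_modEq_card_fixedPoints X
  refine h1.trans ?_
  have h2 : Nat.card (MulAction.fixedPoints (Subgroup.zpowers x) X) = 1 := by
    have hx1 : (⟨x, 1, R.one_mem, by simp⟩ : X) ∈ MulAction.fixedPoints (Subgroup.zpowers x) X := by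
      intro g
      refine Subtype.ext ?_
      show g.1 * x * g.1⁻¹ = x
      obtain ⟨k, hk⟩ := Subgroup.mem_zpowers_iff.1 g.2
      rw [← hk]
      have : Commute (x ^ k) x := (Commute.refl x).zpow_left k
      rw [this.eq, mul_inv_cancel_right]
    have hu : Unique (MulAction.fixedPoints (Subgroup.zpowers x) X) :=
      { default := ⟨_, hx1⟩
        uniq := by
          rintro ⟨⟨z, y, hy, hz⟩, hfix⟩
          refine Subtype.ext (Subtype.ext ?_)
          show z = x
          have h3 : x * z * x⁻¹ = z := congrArg Subtype.val (hfix ⟨x, Subgroup.mem_zpowers x⟩)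
          have hc : Commute x z := by
            rw [mul_inv_eq_iff_eq_mul] at h3
            exact h3
          -- `w = z x⁻¹ ∈ N`
          have hw : z * x⁻¹ ∈ N := by
            rw [hz]
            have h4 : y * x * y⁻¹ * x⁻¹ = y * (x * y⁻¹ * x⁻¹) := by group
            rw [h4]
            exact N.mul_mem (hR hy) (Subgroup.Normal.conj_mem inferInstance _ (N.inv_mem (hR hy)) x)
          have hzp : z ^ p = 1 := by
            rw [hz, conj_pow, ← hx, pow_orderOf_eq_one, mul_one, mul_inv_cancel]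
          have hwp : (z * x⁻¹) ^ p = 1 := by
            have hxp : x⁻¹ ^ p = 1 := by rw [inv_pow, ← hx, pow_orderOf_eq_one, inv_one]
            rw [(hc.symm.inv_right).mul_pow, hzp, hxp, one_mul]
          have h5 : (⟨z * x⁻¹, hw⟩ : N) = 1 := by
            have h6 : (⟨z * x⁻¹, hw⟩ : N) ^ p = 1 := Subtype.ext hwp
            have h7 := orderOf_dvd_of_pow_eq_one h6
            rcases (Nat.dvd_prime hp).1 h7 with h8 | h8
            · exact orderOf_eq_one_iff.1 h8
            · exfalso
              apply hpN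
              rw [← h8]
              exact orderOf_dvd_natCard _
          have h6 : z * x⁻¹ = 1 := congrArg Subtype.val h5
          exact mul_inv_eq_one.1 h6 }
    exact Nat.card_unique
  rw [h2]

/-- the number of conjugates of `x` under `R` times the centraliser -/
theorem card_conj_mul (R : Subgroup G) (x : G) :
    Nat.card {z : G // ∃ y ∈ R, z = y * x * y⁻¹} * Nat.card (R ⊓ Subgroup.centralizer {x} : Subgroup G) =
      Nat.card R := by
  classical
  let C := (Subgroup.centralizer {x}).subgroupOf R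
  have h1 := Subgroup.card_eq_card_quotient_mul_card_subgroup C
  have h2 : Nat.card C = Nat.card (R ⊓ Subgroup.centralizer {x} : Subgroup G) := by
    refine Nat.card_congr ⟨fun y => ⟨y.1.1, y.1.2, y.2⟩, fun y => ⟨⟨y.1, y.2.1⟩, y.2.2⟩, ?_, ?_⟩
    · intro y; rfl
    · intro y; rfl
  rw [h1, h2]
  congr 1
  symm
  refine Nat.card_congr (Equiv.ofBijective (fun q => Quotient.liftOn' q
    (fun y : R => (⟨y.1 * x * y.1⁻¹, y.1, y.2, rfl⟩ : {z : G // ∃ y ∈ R, z = y * x * y⁻¹})) ?_) ⟨?_, ?_⟩)
  · intro a b hab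
    rw [QuotientGroup.leftRel_apply] at hab
    have h3 : (a⁻¹ * b : R).1 ∈ Subgroup.centralizer {x} := hab
    rw [Subgroup.mem_centralizer_singleton_iff] at h3
    refine Subtype.ext ?_
    show a.1 * x * a.1⁻¹ = b.1 * x * b.1⁻¹
    have h4 : b.1 = a.1 * (a⁻¹ * b : R).1 := by
      show b.1 = a.1 * (a.1⁻¹ * b.1)
      group
    rw [h4]
    calc a.1 * x * a.1⁻¹ = a.1 * (x * (a⁻¹ * b : R).1) * (a⁻¹ * b : R).1⁻¹ * a.1⁻¹ := by group
      _ = a.1 * ((a⁻¹ * b : R).1 * x) * (a⁻¹ * b : R).1⁻¹ * a.1⁻¹ := by rw [h3]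
      _ = _ := by group
  · intro q1 q2
    induction q1 using Quotient.inductionOn' with
    | _ a =>
    induction q2 using Quotient.inductionOn' with
    | _ b =>
    intro hab
    have h3 : a.1 * x * a.1⁻¹ = b.1 * x * b.1⁻¹ := congrArg Subtype.val hab
    apply Quotient.sound'
    rw [QuotientGroup.leftRel_apply]
    show (a⁻¹ * b : R).1 ∈ Subgroup.centralizer {x}
    rw [Subgroup.mem_centralizer_singleton_iff]
    show a.1⁻¹ * b.1 * x = x * (a.1⁻¹ * b.1)
    calc a.1⁻¹ * b.1 * x = a.1⁻¹ * (b.1 * x * b.1⁻¹) * b.1 := by group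
      _ = a.1⁻¹ * (a.1 * x * a.1⁻¹) * b.1 := by rw [h3]
      _ = _ := by group
  · rintro ⟨z, y, hy, rfl⟩
    exact ⟨Quotient.mk'' ⟨y, hy⟩, rfl⟩

/-- an element of order `p` centralises a Sylow `r`-subgroup of a normal `p'`-subgroup if no power `r ^ i` dividing
its order is `1` modulo `p` -/
theorem cent_sylow {p : ℕ} (hp : p.Prime) (N : Subgroup G) [hN : N.Normal] {x : G} (hx : orderOf x = p)
    (hpN : ¬ p ∣ Nat.card N) {r : ℕ} (hr : r.Prime)
    (hnum : ∀ i, 1 ≤ i → r ^ i ∣ Nat.card N → ¬ p ∣ r ^ i - 1) :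
    ∃ R : Subgroup G, R ≤ N ∧ Nat.card R = r ^ (Nat.card N).factorization r ∧ ∀ y ∈ R, Commute x y := by
  classical
  have hpF : Fact p.Prime := ⟨hp⟩
  have hrF : Fact r.Prime := ⟨hr⟩
  -- an invariant Sylow subgroup
  let act : MulAction (Subgroup.zpowers x) (Sylow r N) :=
    { smul := fun g S => MulAut.conjNormal (H := N) g.1 • S
      one_smul := fun S => by
        show MulAut.conjNormal (H := N) (1 : G) • S = S
        rw [map_one, one_smul]
      mul_smul := fun g h S => by
        show MulAut.conjNormal (H := N) (g.1 * h.1) • S = MulAut.conjNormal (H := N) g.1 • (MulAut.conjNormal (H := N) h.1 • S)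
        rw [map_mul, mul_smul] }
  have hP : IsPGroup p (Subgroup.zpowers x) := by
    apply IsPGroup.of_card (n := 1)
    rw [Nat.card_zpowers, hx, pow_one]
  have hnd : ¬ p ∣ Nat.card (Sylow r N) := by
    intro h
    apply hpN
    have S : Sylow r N := default
    exact h.trans ((Sylow.card_dvd_index S).trans (Subgroup.index_dvd_card _))
  obtain ⟨S, hS⟩ := hP.nonempty_fixed_point_of_prime_not_dvd_card (Sylow r N) hnd
  have hSx : MulAut.conjNormal (H := N) x • S = S := by
    have h0 := hS ⟨x, Subgroup.mem_zpowers x⟩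
    exact h0
  let R : Subgroup G := (S : Subgroup N).map N.subtype
  have hRN : R ≤ N := by
    rintro _ ⟨y, -, rfl⟩
    exact y.2
  have hRc : Nat.card R = r ^ (Nat.card N).factorization r := by
    rw [← Sylow.card_eq_multiplicity S]
    exact (Nat.card_congr ((S : Subgroup N).equivMapOfInjective N.subtype N.subtype_injective).toEquiv).symm
  have hRx : ∀ y ∈ R, x * y * x⁻¹ ∈ R := by
    rintro _ ⟨y, hy, rfl⟩
    refine ⟨MulAut.conjNormal (H := N) x y, ?_, ?_⟩
    · have h1 : MulAut.conjNormal (H := N) x y ∈ ((MulAut.conjNormal (H := N) x • S : Sylow r N) : Set N) := by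
        exact Set.smul_mem_smul_set hy
      rw [hSx] at h1
      exact h1
    · exact MulAut.conjNormal_apply x y
  refine ⟨R, hRN, hRc, ?_⟩
  have h1 := card_conj_modEq hp N hx hpN R hRN hRx
  have h2 := card_conj_mul R x
  -- the number of conjugates is a power of `r`
  have h3 : Nat.card {z : G // ∃ y ∈ R, z = y * x * y⁻¹} ∣ r ^ (Nat.card N).factorization r := by
    rw [← hRc, ← h2]
    exact Dvd.intro _ rfl
  obtain ⟨i, hi, hi2⟩ := (Nat.dvd_prime_pow hr).1 h3
  have hi0 : i = 0 := by
    by_contra hne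
    refine hnum i (Nat.one_le_iff_ne_zero.2 hne) ((pow_dvd_pow r hi).trans (Nat.ordProj_dvd _ _)) ?_
    rw [hi2] at h1
    exact (Nat.modEq_iff_dvd' (Nat.one_le_pow _ _ hr.pos)).1 h1.symm
  rw [hi2, hi0, pow_zero, one_mul] at h2
  have h4 : R ⊓ Subgroup.centralizer {x} = R := Subgroup.eq_of_le_of_card_ge inf_le_left h2.ge
  intro y hy
  rw [← h4] at hy
  exact (Subgroup.mem_centralizer_singleton_iff.1 hy.2).symm

/-- a maximal normal `p'`-subgroup -/
theorem exists_max (G : Type u) [Group G] [Finite G] (p : ℕ) (hp : p.Prime) :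
    ∃ N : Subgroup G, N.Normal ∧ ¬ p ∣ Nat.card N ∧ ∀ M : Subgroup G, M.Normal → N ≤ M → ¬ p ∣ Nat.card M → M = N := by
  classical
  let S : Set (Subgroup G) := {N | N.Normal ∧ ¬ p ∣ Nat.card N}
  have hS : S.Nonempty := ⟨⊥, inferInstance, by
    rw [Subgroup.card_bot]
    exact fun h => hp.one_lt.ne' (Nat.dvd_one.1 h)⟩
  obtain ⟨N, hN⟩ := (Set.toFinite S).exists_maximal hS
  refine ⟨N, hN.prop.1, hN.prop.2, ?_⟩
  intro M hM hNM hpM
  exact le_antisymm (hN.le_of_ge ⟨hM, hpM⟩ hNM) hNM

theorem card_comap_mk (N : Subgroup G) [N.Normal] (M : Subgroup (G ⧸ N)) :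
    Nat.card (M.comap (QuotientGroup.mk' N)) = Nat.card M * Nat.card N := by
  have h1 := (M.comap (QuotientGroup.mk' N)).card_mul_index
  have h2 := M.card_mul_index
  have h3 := Subgroup.card_eq_card_quotient_mul_card_subgroup N
  rw [Subgroup.index_comap_of_surjective M (QuotientGroup.mk'_surjective N), h3, ← h2] at h1
  have h4 : 0 < M.index := Nat.pos_of_ne_zero Subgroup.index_ne_zero_of_finite
  apply Nat.eq_of_mul_eq_mul_right h4
  rw [h1]
  ring

/-- the simple chief factor of order divisible by `p` -/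
theorem exists_chief {p : ℕ} (hp : p.Prime) (h1 : p ∣ Nat.card G) (h2 : ¬ p ^ 2 ∣ Nat.card G) :
    ∃ N : Subgroup G, ∃ _ : N.Normal, ¬ p ∣ Nat.card N ∧
      (∀ M : Subgroup (G ⧸ N), M.Normal → ¬ p ∣ Nat.card M → M = ⊥) ∧
      ∃ V : Subgroup (G ⧸ N), V.Normal ∧ IsSimpleGroup V ∧ p ∣ Nat.card V := by
  obtain ⟨N, hN, hpN, hmax⟩ := exists_max G p hp
  have hno : ∀ M : Subgroup (G ⧸ N), M.Normal → ¬ p ∣ Nat.card M → M = ⊥ := by
    intro M hM hpM
    have hcard := card_comap_mk N M
    have h3 : M.comap (QuotientGroup.mk' N) = N := by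
      refine hmax _ inferInstance ?_ ?_
      · intro y hy
        rw [Subgroup.mem_comap, QuotientGroup.mk'_apply, (QuotientGroup.eq_one_iff y).2 hy]
        exact M.one_mem
      · rw [hcard]
        intro h
        rcases hp.dvd_mul.1 h with h4 | h4
        · exact hpM h4
        · exact hpN h4
    rw [eq_bot_iff]
    intro y hy
    obtain ⟨g, rfl⟩ := QuotientGroup.mk'_surjective N y
    have h4 : g ∈ M.comap (QuotientGroup.mk' N) := hy
    rw [h3] at h4
    exact (QuotientGroup.eq_one_iff g).2 h4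
  refine ⟨N, hN, hpN, hno, ?_⟩
  have hcardG := Subgroup.card_eq_card_quotient_mul_card_subgroup N
  have hpq : p ∣ Nat.card (G ⧸ N) := by
    rw [hcardG] at h1
    exact (hp.dvd_mul.1 h1).resolve_right hpN
  have hnt : Nontrivial (G ⧸ N) := by
    apply (Finite.one_lt_card_iff_nontrivial).1
    exact lt_of_lt_of_le hp.one_lt (Nat.le_of_dvd Nat.card_pos hpq)
  obtain ⟨V, hV, hVbot, hmin⟩ := Lib.SubnormalJoin.exists_minimal_normal (G ⧸ N)
  have hpV : p ∣ Nat.card V := by
    by_contra h
    exact hVbot (hno V hV h)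
  refine ⟨V, hV, ?_, hpV⟩
  obtain ⟨T, m, hTV, hTs, hm, ⟨e⟩⟩ := Lib.MinNormal.exists_mulEquiv_pi V hVbot hmin
  have hVc : Nat.card V = Nat.card T ^ m := by
    rw [Nat.card_congr e.toEquiv, Nat.card_fun, Nat.card_eq_fintype_card (α := Fin m), Fintype.card_fin]
  have hpT : p ∣ Nat.card T := by
    rw [hVc] at hpV
    exact hp.dvd_of_dvd_pow hpV
  have hm1 : m = 1 := by
    by_contra hne
    apply h2
    have h3 : p ^ 2 ∣ Nat.card T ^ m := (pow_dvd_pow p (by omega : 2 ≤ m)).trans (pow_dvd_pow_of_dvd hpT m)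
    rw [← hVc] at h3
    rw [hcardG]
    exact h3.trans ((Subgroup.card_subgroup_dvd_card V).trans (Dvd.intro _ rfl))
  subst hm1
  have e2 : V ≃* T := e.trans (MulEquiv.piUnique (fun _ : Fin 1 => T))
  have := hTs
  exact e2.isSimpleGroup

/-- a subgroup of a quotient of `G` has order dividing `|G|`; if the orders are equal then `G` is isomorphic to it -/
theorem card_dvd_quot (N : Subgroup G) [N.Normal] (V : Subgroup (G ⧸ N)) : Nat.card V * Nat.card N ∣ Nat.card G := by
  rw [← card_comap_mk N V]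
  exact Subgroup.card_subgroup_dvd_card _

theorem equiv_of_card (N : Subgroup G) [N.Normal] (V : Subgroup (G ⧸ N)) (h : Nat.card V = Nat.card G) :
    Nonempty (G ≃* V) := by
  have h1 := card_comap_mk N V
  have h2 : Nat.card (V.comap (QuotientGroup.mk' N)) ≤ Nat.card G := Nat.card_le_card_of_injective _ Subtype.val_injective
  have h3 : 0 < Nat.card G := Nat.card_pos
  have h4 : Nat.card N = 1 := by
    rw [h1, h] at h2
    have h5 : 0 < Nat.card N := Nat.card_pos
    nlinarith
  have hN : N = ⊥ := Subgroup.eq_bot_of_card_eq N h4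
  have hV : V = ⊤ := by
    apply Subgroup.eq_top_of_card_eq
    rw [h]
    have h5 := Subgroup.card_eq_card_quotient_mul_card_subgroup N
    rw [h4, mul_one] at h5
    exact h5
  subst hV
  subst hN
  exact ⟨(QuotientGroup.quotientBot (G := G)).symm.trans Subgroup.topEquiv.symm⟩

end Cfsg.Agent.H418.ChiefP
end

-- part: H418/Rule
section
/-!
# Recognition by the order and the degree of one prime in the prime graph (helper418)

`G` finite, `p ∥ |G|`, `N` a normal `p'`-subgroup, `V` normal in `G ⧸ N` with `p ∣ |V|`.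

* `adj` : if `v_s |V| + v_s (p - 1) < v_s |G|` and `p ∤ s ^ i - 1` for `1 ≤ i`, `i + v_s |V| ≤ v_s |G|`, then `G` has an
  element of order `p * s`.
* `cntS p o l` : the number of the primes `s` for which this applies (`l` the factorization of `|G|`, `o = |V|`).
* `recog` : the order of `G` and an upper bound of the degree of `p` in the prime graph recognise `G` if the
  numerical test of all simple groups of order dividing `|G|` leaves only one name.
-/

set_option autoImplicit false

namespace Cfsg.Agent.H418.Rule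

open Cfsg.Agent

universe u

theorem exists_order_of_quot {G : Type u} [Group G] [Finite G] (N : Subgroup G) [N.Normal] (z : G ⧸ N) :
    ∃ w : G, orderOf w = orderOf z := by
  obtain ⟨g, rfl⟩ := QuotientGroup.mk'_surjective N z
  have h1 : orderOf (QuotientGroup.mk' N g) ∣ orderOf g := orderOf_map_dvd _ g
  have h2 : 0 < orderOf g := orderOf_pos g
  obtain ⟨k, hk⟩ := h1
  refine ⟨g ^ k, ?_⟩
  have hk0 : k ≠ 0 := by
    rintro rfl
    rw [mul_zero] at hk
    omega
  rw [orderOf_pow_of_dvd hk0 (hk ▸ Dvd.intro_left _ rfl), hk, Nat.mul_div_cancel _ (Nat.pos_of_ne_zero hk0)]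

theorem order_mul {G : Type u} [Group G] {p s : ℕ} (hp : p.Prime) (hs : s.Prime) (hne : s ≠ p) {x y : G}
    (hx : orderOf x = p) (hy : orderOf y = s) (hxy : Commute x y) : orderOf (x * y) = p * s := by
  rw [hxy.orderOf_mul_eq_mul_orderOf_of_coprime, hx, hy]
  rw [hx, hy]
  exact (Nat.coprime_primes hp hs).2 (Ne.symm hne)

/-- the Frattini argument in the quotient -/
theorem adj_quot {H : Type u} [Group H] [Finite H] {p s : ℕ} (hp : p.Prime) (hs : s.Prime) (hne : s ≠ p)
    (V : Subgroup H) [V.Normal] (hpV : p ∣ Nat.card V) (hp2 : ¬ p ^ 2 ∣ Nat.card H)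
    (hb : (Nat.card V).factorization s + (p - 1).factorization s < (Nat.card H).factorization s) :
    ∃ z : H, orderOf z = p * s := by
  classical
  have hpF : Fact p.Prime := ⟨hp⟩
  have hsF : Fact s.Prime := ⟨hs⟩
  have hV0 : Nat.card V ≠ 0 := Nat.card_pos.ne'
  have hH0 : Nat.card H ≠ 0 := Nat.card_pos.ne'
  have P : Sylow p V := default
  have hPc : Nat.card P = p := by
    rw [Sylow.card_eq_multiplicity]
    have h1 : (Nat.card V).factorization p = 1 := by
      have h2 : 1 ≤ (Nat.card V).factorization p := (hp.dvd_iff_one_le_factorization hV0).1 hpV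
      have h3 : ¬ 2 ≤ (Nat.card V).factorization p := by
        rw [← hp.pow_dvd_iff_le_factorization hV0]
        exact fun h => hp2 (h.trans (Subgroup.card_subgroup_dvd_card V))
      omega
    rw [h1, pow_one]
  let Q : Subgroup H := (P : Subgroup V).map V.subtype
  have hQc : Nat.card Q = p := by
    rw [← hPc]
    exact (Nat.card_congr ((P : Subgroup V).equivMapOfInjective V.subtype V.subtype_injective).toEquiv).symm
  let K : Subgroup H := Subgroup.normalizer (Q : Set H)
  have hK : K ⊔ V = ⊤ := Sylow.normalizer_sup_eq_top P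
  have h1 : V.index ∣ Nat.card K := by
    have h2 := Subgroup.relIndex_sup_right K V
    rw [hK, Subgroup.relIndex_top_right] at h2
    rw [h2]
    exact Subgroup.index_dvd_card _
  have h3 : (Subgroup.centralizer (Q : Set H)).relIndex K ∣ p - 1 := by
    have key := Subgroup.card_dvd_of_injective _ (QuotientGroup.kerLift_injective Q.normalizerMonoidHom)
    rw [Subgroup.normalizerMonoidHom_ker, ← Subgroup.index, ← Subgroup.relIndex] at key
    have hcyc : IsCyclic Q := isCyclic_of_prime_card hQc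
    rw [IsCyclic.card_mulAut, hQc, Nat.totient_prime hp] at key
    exact key
  have h4 := ((Subgroup.centralizer (Q : Set H)).subgroupOf K).card_mul_index
  have h5 : s ∣ Nat.card ((Subgroup.centralizer (Q : Set H)).subgroupOf K) := by
    rw [hs.dvd_iff_one_le_factorization Nat.card_pos.ne']
    have h6 : V.index.factorization s ≤ (Nat.card K).factorization s :=
      (Nat.factorization_le_iff_dvd Subgroup.index_ne_zero_of_finite Nat.card_pos.ne').2 h1 s
    have h7 : ((Subgroup.centralizer (Q : Set H)).relIndex K).factorization s ≤ (p - 1).factorization s :=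
      (Nat.factorization_le_iff_dvd Subgroup.index_ne_zero_of_finite (by have := hp.two_le; omega)).2 h3 s
    have h8 : (Nat.card V).factorization s + V.index.factorization s = (Nat.card H).factorization s := by
      rw [← V.card_mul_index, Nat.factorization_mul hV0 Subgroup.index_ne_zero_of_finite]
      rfl
    have h9 : (Nat.card K).factorization s =
        (Nat.card ((Subgroup.centralizer (Q : Set H)).subgroupOf K)).factorization s +
          ((Subgroup.centralizer (Q : Set H)).relIndex K).factorization s := by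
      rw [← h4, Nat.factorization_mul Nat.card_pos.ne' Subgroup.index_ne_zero_of_finite]
      rfl
    omega
  obtain ⟨y, hy⟩ := exists_prime_orderOf_dvd_card' (G := (Subgroup.centralizer (Q : Set H)).subgroupOf K) s h5
  obtain ⟨x, hx⟩ := exists_prime_orderOf_dvd_card' (G := Q) p (hQc ▸ dvd_rfl)
  refine ⟨x.1 * y.1.1, order_mul hp hs hne (by rw [Subgroup.orderOf_coe, hx]) ?_ ?_⟩
  · rw [Subgroup.orderOf_coe, Subgroup.orderOf_coe, hy]
  · have h10 : y.1.1 ∈ Subgroup.centralizer (Q : Set H) := y.2
    exact (Subgroup.mem_centralizer_iff.1 h10 x.1 x.2)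

/-- **the rule** -/
theorem adj {G : Type u} [Group G] [Finite G] {p s : ℕ} (hp : p.Prime) (hs : s.Prime) (hne : s ≠ p)
    (hpG : ¬ p ^ 2 ∣ Nat.card G) (N : Subgroup G) [N.Normal] (hpN : ¬ p ∣ Nat.card N)
    (V : Subgroup (G ⧸ N)) [V.Normal] (hpV : p ∣ Nat.card V)
    (hb : (Nat.card V).factorization s + (p - 1).factorization s < (Nat.card G).factorization s)
    (hnum : ∀ i, 1 ≤ i → i + (Nat.card V).factorization s ≤ (Nat.card G).factorization s → ¬ p ∣ s ^ i - 1) :
    ∃ z : G, orderOf z = p * s := by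
  classical
  have hpF : Fact p.Prime := ⟨hp⟩
  have hsF : Fact s.Prime := ⟨hs⟩
  have hcard := Subgroup.card_eq_card_quotient_mul_card_subgroup N
  have hfac : (Nat.card G).factorization s = (Nat.card (G ⧸ N)).factorization s + (Nat.card N).factorization s := by
    rw [hcard, Nat.factorization_mul Nat.card_pos.ne' Nat.card_pos.ne']
    rfl
  by_cases hsN : s ∣ Nat.card N
  · have hpQ : p ∣ Nat.card G := by
      rw [hcard]
      exact (hpV.trans (Subgroup.card_subgroup_dvd_card V)).mul_right _
    obtain ⟨x, hx⟩ := exists_prime_orderOf_dvd_card' (G := G) p hpQ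
    have hVs : (Nat.card V).factorization s ≤ (Nat.card (G ⧸ N)).factorization s :=
      (Nat.factorization_le_iff_dvd Nat.card_pos.ne' Nat.card_pos.ne').2 (Subgroup.card_subgroup_dvd_card V) s
    obtain ⟨R, hRN, hRc, hRx⟩ := ChiefP.cent_sylow hp N hx hpN hs (by
      intro i hi hiN
      refine hnum i hi ?_
      have h1 := (hs.pow_dvd_iff_le_factorization Nat.card_pos.ne').1 hiN
      omega)
    have h1 : 1 ≤ (Nat.card N).factorization s := (hs.dvd_iff_one_le_factorization Nat.card_pos.ne').1 hsN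
    obtain ⟨y, hy⟩ := exists_prime_orderOf_dvd_card' (G := R) s (by
      rw [hRc]
      exact dvd_pow_self s (by omega))
    exact ⟨x * y.1, order_mul hp hs hne hx (by rw [Subgroup.orderOf_coe, hy]) (hRx y.1 y.2)⟩
  · have h1 : (Nat.card N).factorization s = 0 := Nat.factorization_eq_zero_of_not_dvd hsN
    obtain ⟨z, hz⟩ := adj_quot hp hs hne V hpV
      (fun h => hpG (h.trans (by rw [hcard]; exact Dvd.intro _ rfl))) (by omega)
    obtain ⟨w, hw⟩ := exists_order_of_quot N z
    exact ⟨w, hw.trans hz⟩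

/-! ### the numerical test -/

/-- `min k (v_s n)` -/
def vb (s n k : ℕ) : ℕ := ((List.range k).filter fun i => n % s ^ (i + 1) == 0).length

theorem vb_eq {s n : ℕ} (hs : s.Prime) (hn : n ≠ 0) (k : ℕ) : vb s n k = min k (n.factorization s) := by
  unfold vb
  induction k with
  | zero => simp
  | succ k ih =>
    rw [List.range_succ, List.filter_append, List.length_append, ih]
    by_cases h : k + 1 ≤ n.factorization s
    · have h1 : n % s ^ (k + 1) = 0 := Nat.mod_eq_zero_of_dvd ((hs.pow_dvd_iff_le_factorization hn).2 h)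
      simp only [List.filter_cons, List.filter_nil, h1, beq_self_eq_true, if_true, List.length_singleton]
      omega
    · have h1 : n % s ^ (k + 1) ≠ 0 := fun h0 =>
        h ((hs.pow_dvd_iff_le_factorization hn).1 (Nat.dvd_of_mod_eq_zero h0))
      simp only [List.filter_cons, List.filter_nil, beq_iff_eq, h1, if_false, List.length_nil]
      omega

/-- the rule applies for the prime `x.1` -/
def okS (p o : ℕ) (x : ℕ × ℕ) : Bool :=
  !(Nat.beq x.1 p) && (Nat.blt (vb x.1 (p - 1) x.2) (x.2 - vb x.1 o x.2) &&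
    (List.range (x.2 - vb x.1 o x.2)).all fun i => (x.1 ^ (i + 1) - 1) % p != 0)

/-- the number of the primes for which the rule applies -/
def cntS (p o : ℕ) (l : List (ℕ × ℕ)) : ℕ := (l.filter (okS p o)).length

theorem valid_fac {l : List (ℕ × ℕ)} {N : ℕ} (hv : OrdDiv.valid l N = true) {x : ℕ × ℕ} (hx : x ∈ l) :
    N.factorization x.1 = x.2 := by
  have hN := OrdDiv.valid_pos hv
  have h1 := OrdDiv.valid_prime hv x hx
  have h2 := OrdDiv.valid_exact hv x hx
  have h3 : x.1 ^ x.2 ∣ N := by
    rw [← OrdDiv.valid_prod hv]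
    unfold OrdDiv.prodl
    exact List.dvd_prod (List.mem_map.2 ⟨x, hx, rfl⟩)
  rw [h1.pow_dvd_iff_le_factorization hN.ne'] at h2 h3
  omega

/-- the primes adjacent to `p` in the prime graph -/
def nb (G : Type u) [Group G] (p : ℕ) : Set ℕ :=
  {s : ℕ | s.Prime ∧ s ∣ Nat.card G ∧ s ≠ p ∧ ∃ x : G, orderOf x = p * s}

theorem nb_finite (G : Type u) [Group G] [Finite G] (p : ℕ) : (nb G p).Finite := by
  refine (Finset.finite_toSet (Nat.divisors (Nat.card G))).subset ?_
  intro s hs
  exact Finset.mem_coe.2 (Nat.mem_divisors.2 ⟨hs.2.1, Nat.card_pos.ne'⟩)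

/-- **the rule, counting** -/
theorem cntS_le {G : Type u} [Group G] [Finite G] {l : List (ℕ × ℕ)} {n : ℕ} (hv : OrdDiv.valid l n = true)
    (hnd : (l.map Prod.fst).Nodup) (hG : Nat.card G = n) {p : ℕ} (hp : p.Prime)
    (hpG : ¬ p ^ 2 ∣ n) (N : Subgroup G) [N.Normal] (hpN : ¬ p ∣ Nat.card N)
    (V : Subgroup (G ⧸ N)) [V.Normal] (hpV : p ∣ Nat.card V) : cntS p (Nat.card V) l ≤ (nb G p).ncard := by
  classical
  unfold cntS
  have h1 : (l.filter (okS p (Nat.card V))).length =
      (((l.filter (okS p (Nat.card V))).map Prod.fst).toFinset).card := by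
    rw [List.toFinset_card_of_nodup, List.length_map]
    exact hnd.sublist (List.filter_sublist.map _)
  rw [h1, ← Set.ncard_coe_finset]
  apply Set.ncard_le_ncard _ (nb_finite G p)
  intro s hs
  rw [Finset.mem_coe, List.mem_toFinset, List.mem_map] at hs
  obtain ⟨x, hx, rfl⟩ := hs
  rw [List.mem_filter] at hx
  obtain ⟨hxl, hx2⟩ := hx
  have hxp := OrdDiv.valid_prime hv x hxl
  have hfac := valid_fac hv hxl
  unfold okS at hx2
  rw [Bool.and_eq_true, Bool.and_eq_true, Bool.not_eq_true', Nat.blt_eq, List.all_eq_true] at hx2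
  obtain ⟨hne, hlt, hall⟩ := hx2
  have hne' : x.1 ≠ p := by
    intro h
    rw [h] at hne
    simp at hne
  have hVd : Nat.card V ∣ n := by
    rw [← hG]
    exact (Dvd.intro _ rfl : Nat.card V ∣ Nat.card V * Nat.card N).trans (ChiefP.card_dvd_quot N V)
  have hn0 : n ≠ 0 := (OrdDiv.valid_pos hv).ne'
  have hVf : (Nat.card V).factorization x.1 ≤ x.2 := by
    rw [← hfac]
    exact (Nat.factorization_le_iff_dvd Nat.card_pos.ne' hn0).2 hVd x.1
  rw [vb_eq hxp Nat.card_pos.ne', vb_eq hxp (by have := hp.two_le; omega), min_eq_right hVf] at hlt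
  rw [vb_eq hxp Nat.card_pos.ne', min_eq_right hVf] at hall
  refine ⟨hxp, ?_, hne', ?_⟩
  · rw [hG]
    rw [← Nat.pos_iff_ne_zero] at hn0
    apply (hxp.dvd_iff_one_le_factorization hn0.ne').2
    omega
  · refine adj hp hxp hne' (by rw [hG]; exact hpG) N hpN V hpV ?_ ?_
    · rw [hG, hfac]
      rcases Nat.lt_or_ge (x.2) ((p - 1).factorization x.1) with h | h
      · rw [min_eq_left h.le] at hlt
        omega
      · rw [min_eq_right h] at hlt
        omega
    · intro i hi hile
      rw [hG, hfac] at hile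
      have h2 := hall (i - 1) (List.mem_range.2 (by omega))
      rw [Nat.sub_add_cancel hi] at h2
      intro hd
      rw [Nat.mod_eq_zero_of_dvd hd] at h2
      exact absurd h2 (by decide)

/-- **recognition** : the order and the degree of `p` -/
theorem recog (T : OrdDiv.OrderTable.{u}) (hS : ∀ (S : Type u) [Group S] [Finite S] [IsSimpleGroup S], IsKnownSimple' S)
    {l : List (ℕ × ℕ)} {n p d : ℕ} {g : OrdDiv.Grp} (hv : OrdDiv.valid l n = true)
    (hnd : (l.map Prod.fst).Nodup) (hp : (p, 1) ∈ l) (hcyc : d < cntS p p l)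
    (hfil : (OrdDiv.cands l n).filter (fun g => (OrdDiv.ordN g % p == 0) && Nat.ble (cntS p (OrdDiv.ordN g) l) d) = [g])
    (hg : OrdDiv.ordN g = n) {G : Type u} [Group G] [Finite G] (hG : Nat.card G = n)
    (hd : (nb G p).ncard ≤ d) : ∃ (V : Type u) (_ : Group V), OrdDiv.Real g V ∧ Nonempty (G ≃* V) := by
  classical
  have hpp : p.Prime := OrdDiv.valid_prime hv _ hp
  have hpG : ¬ p ^ 2 ∣ n := OrdDiv.valid_exact hv _ hp
  have hpn : p ∣ n := by
    have h1 := valid_fac hv hp
    exact (hpp.dvd_iff_one_le_factorization (OrdDiv.valid_pos hv).ne').2 h1.ge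
  obtain ⟨N, hN, hpN, -, V, hV, hVs, hpV⟩ := ChiefP.exists_chief hpp (G := G) (hG ▸ hpn) (hG ▸ hpG)
  have hcnt := cntS_le hv hnd hG hpp hpG N hpN V hpV
  by_cases hc : ∀ a b : V, a * b = b * a
  · exfalso
    have hVp : Nat.card V = p := by
      let _ : CommGroup V := { (inferInstance : Group V) with mul_comm := hc }
      have h3 : (Nat.card V).Prime := IsSimpleGroup.prime_card
      exact ((Nat.prime_dvd_prime_iff_eq hpp h3).1 hpV).symm
    rw [hVp] at hcnt
    exact absurd (hcnt.trans hd) (Nat.not_le.2 hcyc)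
  · have hVd : Nat.card V ∣ n := by
      rw [← hG]
      exact (Dvd.intro _ rfl : Nat.card V ∣ Nat.card V * Nat.card N).trans (ChiefP.card_dvd_quot N V)
    obtain ⟨g', hg1, hg2, hg3⟩ := OrdDiv.exists_good T (hS V) hc hv hVd
    have hmem : g' ∈ (OrdDiv.cands l n).filter
        (fun g => (OrdDiv.ordN g % p == 0) && Nat.ble (cntS p (OrdDiv.ordN g) l) d) := by
      refine List.mem_filter.2 ⟨hg1, ?_⟩
      rw [Bool.and_eq_true]
      refine ⟨?_, ?_⟩
      · rw [← hg3]
        simpa using Nat.mod_eq_zero_of_dvd hpV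
      · rw [← hg3, Nat.ble_eq]
        omega
    rw [hfil, List.mem_singleton] at hmem
    subst hmem
    obtain ⟨e⟩ := ChiefP.equiv_of_card N V (by rw [hg3, hg, hG])
    exact ⟨V, inferInstance, hg2, ⟨e⟩⟩

end Cfsg.Agent.H418.Rule
end
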